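import Cfsg.Agent.O9Spec80.Spin

/-!
Cyclic tori of order `q^k ∓ 1` and their spinor norm.
-/

set_option autoImplicit false
set_option linter.unusedSectionVars false

namespace Cfsg.Agent.O9Spec80

open QuadraticMap
open Cfsg.Agent.UnitaryOrthogonal (orth orth_ext PolarND level orthCongr)
open Cfsg.Agent.OrthFix

universe u v

variable {F : Type u} [Field F] [Fintype F]

/-- `q ^ k - η` -/
def torN (q k : ℕ) (η : ℤ) : ℕ := if η = 1 then q ^ k - 1 else q ^ k + 1

theorem torN_pos {q k : ℕ} (hq : 2 ≤ q) (hk : 1 ≤ k) (η : ℤ) : 0 < torN q k η := by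
  have := Nat.one_lt_pow (show k ≠ 0 by omega) (show 1 < q by omega)
  unfold torN; split_ifs <;> omega

theorem torN_cast {q k : ℕ} (hq : 1 ≤ q) {η : ℤ} (hη : η = 1 ∨ η = -1) :
    (torN q k η : ℤ) = (q : ℤ) ^ k - η := by
  have := Nat.one_le_pow k q hq
  rcases hη with rfl | rfl
  · rw [torN, if_pos rfl, Nat.cast_sub this]; simp
  · rw [torN, if_neg (by decide)]; simp

theorem level_eq {V : Type v} [AddCommGroup V] [Module F V] {Q : QuadraticForm F V} {η : ℤ}
    (h : Sig Q η) {k : ℕ} (hk : 1 ≤ k) (hd : Module.finrank F V = 2 * k) {c : F} (hc : c ≠ 0) :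
    level Q c = Fintype.card F ^ (k - 1) * torN (Fintype.card F) k η := by
  have h1 := h.count c
  rw [hd, kern_even (even_two_mul k), nu, if_neg hc, show 2 * k / 2 = k by omega] at h1
  obtain ⟨i, rfl⟩ : ∃ i, k = i + 1 := ⟨k - 1, by omega⟩
  have hq : (Fintype.card F : ℤ) ≠ 0 := by exact_mod_cast Fintype.card_pos.ne'
  have h2 : (level Q c : ℤ) = (Fintype.card F : ℤ) ^ i * torN (Fintype.card F) (i + 1) η := by
    rw [torN_cast Fintype.card_pos h.unit]
    refine mul_left_cancel₀ hq ?_
    rw [h1]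
    ring
  exact_mod_cast h2

theorem exists_model_plus {p : ℕ} [Fact p.Prime] [CharP F p] {k : ℕ} (hk : 1 ≤ k) :
    ∃ (W : Type) (_ : AddCommGroup W) (_ : Module F W) (_ : FiniteDimensional F W) (R : QuadraticForm F W) (t : orth R),
      PolarND R ∧ Sig R 1 ∧ Module.finrank F W = 2 * k ∧ t ^ torN (Fintype.card F) k 1 = 1 ∧
      ∀ x : W, x ≠ 0 → ∀ j, (t ^ j).1 x = x → torN (Fintype.card F) k 1 ∣ j := by
  classical
  haveI : NeZero k := ⟨by omega⟩
  let K := FiniteField.Extension F p k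
  letI : Fintype K := Fintype.ofFinite K
  have hK : Fintype.card K = Fintype.card F ^ k := by
    rw [← Nat.card_eq_fintype_card, ← Nat.card_eq_fintype_card]
    exact FiniteField.natCard_extension F p k
  obtain ⟨g, hg⟩ := IsCyclic.exists_ofOrder_eq_natCard (α := Kˣ)
  rw [Nat.card_eq_fintype_card, Fintype.card_units, hK] at hg
  have hN : torN (Fintype.card F) k 1 = Fintype.card F ^ k - 1 := if_pos rfl
  let R : QuadraticForm F (K × K) :=
    LinearMap.BilinMap.toQuadraticMap ((Algebra.traceForm F K).compl₁₂ (LinearMap.fst F K K) (LinearMap.snd F K K))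
  have hR : ∀ x, R x = Algebra.trace F K (x.1 * x.2) := fun x => rfl
  let t0 : (K × K) ≃ₗ[F] (K × K) :=
    LinearEquiv.ofLinearMap ((LinearMap.mulLeft F (g : K)).prodMap (LinearMap.mulLeft F ((g⁻¹ : Kˣ) : K)))
      ((LinearMap.mulLeft F ((g⁻¹ : Kˣ) : K)).prodMap (LinearMap.mulLeft F (g : K)))
      (LinearMap.ext fun x => Prod.ext (g.mul_inv_cancel_left x.1) (g.inv_mul_cancel_left x.2))
      (LinearMap.ext fun x => Prod.ext (g.inv_mul_cancel_left x.1) (g.mul_inv_cancel_left x.2))
  let t : orth R := ⟨t0, fun x => by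
    rw [hR, hR]
    show Algebra.trace F K ((g : K) * x.1 * (((g⁻¹ : Kˣ) : K) * x.2)) = _
    rw [mul_mul_mul_comm, Units.mul_inv, one_mul]⟩
  have hpow : ∀ j x, (t ^ j).1 x = (((g ^ j : Kˣ) : K) * x.1, (((g ^ j)⁻¹ : Kˣ) : K) * x.2) := by
    intro j
    induction j with
    | zero => intro x; simp
    | succ j ih =>
      intro x
      rw [pow_succ', UnitaryOrthogonal.coe_mul_apply, ih]
      show ((g : K) * _, ((g⁻¹ : Kˣ) : K) * _) = _
      simp only [pow_succ', mul_inv_rev, Units.val_mul, Prod.mk.injEq]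
      constructor <;> simp only [LinearMap.fst_apply, LinearMap.snd_apply] <;> ring
  have hfk : Module.finrank F K = k := FiniteField.finrank_extension F p k
  have hdim : Module.finrank F (K × K) = 2 * k := by rw [Module.finrank_prod, hfk, two_mul]
  have hnd : PolarND R := by
    intro u hu
    have e : ∀ y : K × K, Algebra.trace F K (u.1 * y.2) + Algebra.trace F K (y.1 * u.2) = 0 := fun y => by
      rw [← hu y, polar, hR, hR, hR]
      simp only [Prod.fst_add, Prod.snd_add, add_mul, mul_add, map_add]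
      ring
    refine Prod.ext ((traceForm_nondegenerate F K).1 _ fun y => ?_) ((traceForm_nondegenerate F K).1 _ fun y => ?_)
    · simpa [Algebra.traceForm_apply] using e (0, y)
    · simpa [Algebra.traceForm_apply, mul_comm] using e (y, 0)
  refine ⟨K × K, inferInstance, inferInstance, inferInstance, R, t, hnd, ?_, hdim, ?_, ?_⟩
  · refine sig_of_sigOn_top ((sigOn_one_iff (ndOn_top hnd) (h := k) (by rw [finrank_top, hdim])).2
      ⟨LinearMap.range (LinearMap.inl F K K), le_top, ?_, ?_⟩)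
    · rintro _ ⟨a, rfl⟩
      simp [hR]
    · rw [LinearMap.finrank_range_of_inj LinearMap.inl_injective, hfk]
  · refine orth_ext fun x => ?_
    rw [hpow, hN, ← hg, pow_orderOf_eq_one, inv_one, Units.val_one, one_mul, one_mul]
    rfl
  · intro x hx j hj
    rw [hpow] at hj
    rw [hN, ← hg, orderOf_dvd_iff_pow_eq_one]
    rcases not_and_or.1 (fun h : x.1 = 0 ∧ x.2 = 0 => hx (Prod.ext h.1 h.2)) with h | h
    · exact Units.ext ((mul_eq_right₀ h).1 (congrArg Prod.fst hj))
    · exact inv_eq_one.1 (Units.ext ((mul_eq_right₀ h).1 (congrArg Prod.snd hj)))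

theorem exists_model_minus {p : ℕ} [Fact p.Prime] [CharP F p] (h2 : (2 : F) ≠ 0) {k : ℕ} (hk : 1 ≤ k) :
    ∃ (W : Type) (_ : AddCommGroup W) (_ : Module F W) (_ : FiniteDimensional F W) (R : QuadraticForm F W) (t : orth R),
      PolarND R ∧ Sig R (-1) ∧ Module.finrank F W = 2 * k ∧ t ^ torN (Fintype.card F) k (-1) = 1 ∧
      ∀ x : W, x ≠ 0 → ∀ j, (t ^ j).1 x = x → torN (Fintype.card F) k (-1) ∣ j := by
  classical
  haveI : NeZero (2 * k) := ⟨by omega⟩
  let L := FiniteField.Extension F p (2 * k)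
  letI : Fintype L := Fintype.ofFinite L
  set q := Fintype.card F with hqdef
  have hL : Fintype.card L = q ^ (2 * k) := by
    rw [hqdef, ← Nat.card_eq_fintype_card, ← Nat.card_eq_fintype_card]
    exact FiniteField.natCard_extension F p (2 * k)
  have hN : torN q k (-1) = q ^ k + 1 := if_neg (by decide)
  have hq1 : 1 < q := Fintype.one_lt_card
  let σ : Gal(L/F) := FiniteField.frobeniusAlgEquivOfAlgebraic F L ^ k
  have hσ : ∀ x, σ x = x ^ (q ^ k) := fun x => by
    show (FiniteField.frobeniusAlgEquivOfAlgebraic F L ^ k) x = _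
    rw [AlgEquiv.coe_pow, FiniteField.coe_frobeniusAlgEquivOfAlgebraic_iterate]
  have hσσ : ∀ x, σ (σ x) = x := fun x => by
    rw [hσ, hσ, ← pow_mul, ← pow_add, ← two_mul, ← hL, FiniteField.pow_card]
  obtain ⟨g0, hg0⟩ := IsCyclic.exists_ofOrder_eq_natCard (α := Lˣ)
  rw [Nat.card_eq_fintype_card, Fintype.card_units, hL] at hg0
  set g := g0 ^ (q ^ k - 1) with hgdef
  have hfac : q ^ (2 * k) - 1 = (q ^ k + 1) * (q ^ k - 1) := by
    rw [← Nat.sq_sub_sq, one_pow, ← pow_mul, mul_comm]
  have hqk : 1 < q ^ k := Nat.one_lt_pow (by omega) hq1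
  have hg : orderOf g = q ^ k + 1 := by
    rw [hgdef, orderOf_pow' g0 (by omega), hg0, hfac, Nat.gcd_eq_right (dvd_mul_left _ _),
      Nat.mul_div_cancel _ (by omega)]
  have hgσ : (g : L) * σ (g : L) = 1 := by
    rw [hσ, ← pow_succ', ← Units.val_pow_eq_pow_val, ← hg, pow_orderOf_eq_one, Units.val_one]
  let R : QuadraticForm F L :=
    LinearMap.BilinMap.toQuadraticMap ((Algebra.traceForm F L).compl₁₂ LinearMap.id σ.toLinearMap)
  have hR : ∀ x, R x = Algebra.trace F L (x * σ x) := fun x => rfl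
  let t0 : L ≃ₗ[F] L :=
    LinearEquiv.ofLinearMap (LinearMap.mulLeft F (g : L)) (LinearMap.mulLeft F ((g⁻¹ : Lˣ) : L))
      (LinearMap.ext fun x => g.mul_inv_cancel_left x) (LinearMap.ext fun x => g.inv_mul_cancel_left x)
  let t : orth R := ⟨t0, fun x => by
    rw [hR, hR]
    show Algebra.trace F L ((g : L) * x * σ ((g : L) * x)) = _
    rw [map_mul σ, mul_mul_mul_comm, hgσ, one_mul]⟩
  have hpow : ∀ j x, (t ^ j).1 x = ((g ^ j : Lˣ) : L) * x := by
    intro j
    induction j with
    | zero => intro x; simp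
    | succ j ih =>
      intro x
      rw [pow_succ', UnitaryOrthogonal.coe_mul_apply, ih]
      show (g : L) * _ = _
      rw [pow_succ', Units.val_mul, mul_assoc]
  have hdim : Module.finrank F L = 2 * k := FiniteField.finrank_extension F p (2 * k)
  have hsym : ∀ x y : L, Algebra.trace F L (y * σ x) = Algebra.trace F L (x * σ y) := fun x y => by
    refine (Algebra.trace_eq_of_algEquiv σ _).symm.trans ?_
    rw [map_mul σ, hσσ, mul_comm (σ y) x]
  have hnd : PolarND R := by
    intro u hu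
    refine (traceForm_nondegenerate F L).1 _ fun y => ?_
    have h := hu (σ y)
    simp only [polar, hR, map_add, add_mul, mul_add, hsym u (σ y), hσσ] at h
    rw [Algebra.traceForm_apply]
    exact (mul_eq_zero.1 (show (2 : F) * Algebra.trace F L (u * y) = 0 by linear_combination h)).resolve_left h2
  have hfree : ∀ x : L, x ≠ 0 → ∀ j, (t ^ j).1 x = x → torN q k (-1) ∣ j := fun x hx j hj => by
    rw [hpow] at hj
    rw [hN, ← hg, orderOf_dvd_iff_pow_eq_one]
    exact Units.ext ((mul_eq_right₀ hx).1 hj)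
  have ht : t ^ torN q k (-1) = 1 := orth_ext fun x => by
    rw [hpow, hN, ← hg, pow_orderOf_eq_one, Units.val_one, one_mul]
    rfl
  refine ⟨L, inferInstance, inferInstance, inferInstance, R, t, hnd, ?_, hdim, ht, hfree⟩
  obtain ⟨ε, hε⟩ := exists_sig hnd
  rcases hε.unit with rfl | rfl
  · exfalso
    have h := dvd_level (c := (1 : F)) (torN_pos hq1 hk _) ht (fun x hx => hfree x (fun h0 => by
      rw [h0, QuadraticMap.map_zero] at hx; exact zero_ne_one hx))
    rw [level_eq hε hk hdim one_ne_zero, hN, torN, if_pos rfl, ← hqdef] at h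
    have hc : (q ^ k + 1).Coprime (q ^ (k - 1)) := by
      refine Nat.Coprime.pow_right _ ?_
      obtain ⟨i, rfl⟩ : ∃ i, k = i + 1 := ⟨k - 1, by omega⟩
      rw [pow_succ, add_comm]
      simp [Nat.coprime_add_mul_right_left]
    have := Nat.le_of_dvd (by omega) (hc.dvd_of_dvd_mul_left h)
    omega
  · exact hε

variable {V : Type v} [AddCommGroup V] [Module F V] [FiniteDimensional F V] [Finite V]
variable {Q : QuadraticForm F V}

theorem exists_torus (h2 : (2 : F) ≠ 0) (hQ : PolarND Q) {W : Submodule F V} (hW : NDOn Q W) {η : ℤ}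
    (hs : SigOn Q W η) {k : ℕ} (hk : 1 ≤ k) (hd : Module.finrank F W = 2 * k) :
    ∃ T : orth Q, (∀ x ∈ perp Q W, T.1 x = x) ∧ orderOf T = torN (Fintype.card F) k η ∧
      (∀ x ∈ W, x ≠ 0 → ∀ j, (T ^ j).1 x = x → torN (Fintype.card F) k η ∣ j) ∧
      ∀ c : F, c ≠ 0 → sgnQ Q c T = -1 := by
  obtain ⟨p, hchar⟩ := CharP.exists F
  haveI := hchar
  haveI : Fact p.Prime := ⟨CharP.char_is_prime F p⟩
  obtain ⟨A, _, _, _, R, t, hR, hRs, hRd, ht, hfree⟩ :
      ∃ (A : Type) (_ : AddCommGroup A) (_ : Module F A) (_ : FiniteDimensional F A) (R : QuadraticForm F A)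
        (t : orth R), PolarND R ∧ Sig R η ∧ Module.finrank F A = 2 * k ∧ t ^ torN (Fintype.card F) k η = 1 ∧
        ∀ x : A, x ≠ 0 → ∀ j, (t ^ j).1 x = x → torN (Fintype.card F) k η ∣ j := by
    rcases hs.unit with rfl | rfl
    · exact exists_model_plus (p := p) hk
    · exact exists_model_minus (p := p) h2 hk
  haveI : Finite A := Module.finite_of_finite (R := F)
  obtain ⟨e⟩ := Sig.isometric hR hW hRs hs (hRd.trans hd.symm)
  set N := torN (Fintype.card F) k η
  have hN0 : 0 < N := torN_pos Fintype.one_lt_card hk η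
  set t' := orthCongr e t with ht'
  have hfree' : ∀ x : W, x ≠ 0 → ∀ j, (t' ^ j).1 x = x → N ∣ j := by
    intro x hx j hj
    obtain ⟨a, rfl⟩ := e.toLinearEquiv.surjective x
    refine hfree a (fun h0 => hx (by rw [h0, map_zero])) j (e.toLinearEquiv.injective ?_)
    rw [ht', ← map_pow] at hj
    exact (UnitaryOrthogonal.orthCongr_apply e (t ^ j) a).symm.trans hj
  have hN' : t' ^ N = 1 := by rw [ht', ← map_pow, ht, map_one]
  refine ⟨glue hW t', fun x hx => glue_of_perp hW t' hx, ?_, fun x hx hx0 j hj => ?_, fun c hc => ?_⟩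
  · rw [orderOf_injective _ (glue_injective hW)]
    refine Nat.dvd_antisymm (orderOf_dvd_of_pow_eq_one hN') ?_
    haveI : Nontrivial W := Module.nontrivial_of_finrank_pos (R := F) (by omega)
    obtain ⟨x, hx⟩ := exists_ne (0 : W)
    exact hfree' x hx _ (by rw [pow_orderOf_eq_one]; rfl)
  · rw [← map_pow, glue_of_mem hW _ hx] at hj
    exact hfree' ⟨x, hx⟩ (fun h => hx0 (congrArg Subtype.val h)) j (Subtype.ext hj)
  · rw [sgnQ_glue h2 hQ hW hc]
    have hodd : Odd (Fintype.card F) :=
      Nat.odd_iff.2 (FiniteField.odd_card_of_char_ne_two (OrthFix.ringChar_ne_two h2))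
    have hNe : Even N := by
      show Even (torN (Fintype.card F) k η)
      unfold torN
      split_ifs
      · exact Nat.Odd.sub_odd hodd.pow odd_one
      · exact hodd.pow.add_odd odd_one
    rw [sgnQ_semiregular (t := t') (L := Fintype.card F ^ (k - 1)) hNe hN0 hN'
      (fun x hx => hfree' x (fun h0 => by rw [h0, QuadraticMap.map_zero] at hx; exact hc hx.symm))
      (level_eq hs hk hd hc), hodd.pow.neg_one_pow]

end Cfsg.Agent.O9Spec80
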