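import Cfsg.Agent.O9Spec80.Eigen
import Cfsg.Agent.O9Spec80.Torus

/-!
The orders of isometries without fixed vectors of an eight-dimensional space of plus type.
-/

set_option autoImplicit false
set_option linter.unusedSectionVars false

namespace Cfsg.Agent.O9Spec80

open QuadraticMap Polynomial
open Cfsg.Agent.UnitaryOrthogonal (orth orth_ext PolarND level)
open Cfsg.Agent.OrthFix

universe u v

variable {F : Type u} [Field F] [Fintype F] {V : Type v} [AddCommGroup V] [Module F V] [FiniteDimensional F V]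
variable {Q : QuadraticForm F V}

/-- the exceptional orders -/
def InList (p q n : ℕ) : Prop :=
  n ∣ Nat.lcm (q ^ 3 - 1) (q + 1) ∨ n ∣ Nat.lcm (q ^ 3 + 1) (q - 1) ∨ n ∣ (q ^ 4 - 1) / 2 ∨
  n ∣ p * (q ^ 2 - 1) ∨ n ∣ p * Nat.lcm (q ^ 2 + 1) (q - 1) ∨ n ∣ p * Nat.lcm (q ^ 2 + 1) (q + 1) ∨
  (p = 3 ∧ (n ∣ 9 * (q - 1) ∨ n ∣ 9 * (q + 1))) ∨ (p = 5 ∧ n ∣ 50)

theorem exists_orbit (hQ : PolarND Q) (g : orth Q) [DecidableEq (AlgebraicClosure F)]
    {a : AlgebraicClosure F} (ha : a ∈ eig g) (h1 : a ≠ 1) (h1' : a ≠ -1) :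
    ∃ (d : ℕ) (η : ℤ) (S : Finset (AlgebraicClosure F)), 1 ≤ d ∧ (η = 1 ∨ η = -1) ∧ S.card = 2 * d ∧ a ∈ S ∧
      (∀ b ∈ S, (eig g).count b = (eig g).count a) ∧ (∀ b ∈ S, b ≠ -1) ∧
      (∀ b ∈ S, b ^ torN (Fintype.card F) d η = 1) ∧
      (∀ b ∈ S, ∃ i, b = a ^ Fintype.card F ^ i ∨ b = (a ^ Fintype.card F ^ i)⁻¹) ∧
      (∀ b i, b ^ Fintype.card F ^ i ∈ S ∨ (b ^ Fintype.card F ^ i)⁻¹ ∈ S → b ∈ S) := by
  set q := Fintype.card F with hq
  have hq1 : 1 < q := Fintype.one_lt_card
  have ha0 : a ≠ 0 := fun h => zero_not_mem_eig g (h ▸ ha)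
  have hinj : ∀ i, Function.Injective fun x : AlgebraicClosure F => x ^ q ^ i := by
    intro i
    induction i with
    | zero => intro x y h; simpa using h
    | succ i ih =>
      intro x y h
      refine pow_card_injective (F := F) (ih ?_)
      simpa [pow_succ', pow_mul] using h
  have hcount : ∀ i, (eig g).count (a ^ q ^ i) = (eig g).count a := by
    intro i
    induction i with
    | zero => simp
    | succ i ih => rw [pow_succ, pow_mul, count_pow, ih]
  have hex : ∃ d, 1 ≤ d ∧ (a ^ q ^ d = a ∨ a ^ q ^ d = a⁻¹) := by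
    have hmaps : ∀ i ∈ Finset.range ((eig g).toFinset.card + 1), a ^ q ^ i ∈ (eig g).toFinset := fun i _ =>
      Multiset.mem_toFinset.2 (Multiset.count_pos.1 (by rw [hcount]; exact Multiset.count_pos.2 ha))
    obtain ⟨i, hi, j, hj, hne, he⟩ :=
      Finset.exists_ne_map_eq_of_card_lt_of_maps_to (by simp) hmaps
    rcases lt_or_gt_of_ne hne with h | h
    · refine ⟨j - i, by omega, Or.inl (hinj i ?_)⟩
      show (a ^ q ^ (j - i)) ^ q ^ i = a ^ q ^ i
      rw [← pow_mul, ← pow_add, Nat.sub_add_cancel h.le, he]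
    · refine ⟨i - j, by omega, Or.inl (hinj j ?_)⟩
      show (a ^ q ^ (i - j)) ^ q ^ j = a ^ q ^ j
      rw [← pow_mul, ← pow_add, Nat.sub_add_cancel h.le, he]
  set d := Nat.find hex with hd
  obtain ⟨hd1, hdd⟩ := Nat.find_spec hex
  have hsq : a ≠ a⁻¹ := fun h => by
    have h' : a * a = 1 := by nth_rewrite 2 [h]; exact mul_inv_cancel₀ ha0
    rcases mul_self_eq_one_iff.1 h' with h'' | h''
    · exact h1 h''
    · exact h1' h''
  have hlt : ∀ i j, i ≤ j → j < d → (a ^ q ^ j = a ^ q ^ i ∨ a ^ q ^ j = (a ^ q ^ i)⁻¹) → i = j := by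
    intro i j hij hj h
    by_contra hne
    refine Nat.find_min hex (show j - i < d by omega) ⟨by omega, ?_⟩
    rcases h with h | h
    · refine Or.inl (hinj i ?_)
      show (a ^ q ^ (j - i)) ^ q ^ i = a ^ q ^ i
      rw [← pow_mul, ← pow_add, Nat.sub_add_cancel hij, h]
    · refine Or.inr (hinj i ?_)
      show (a ^ q ^ (j - i)) ^ q ^ i = a⁻¹ ^ q ^ i
      rw [← pow_mul, ← pow_add, Nat.sub_add_cancel hij, h, inv_pow]
  let A := (Finset.range d).image fun i => a ^ q ^ i
  let A' := (Finset.range d).image fun i => (a ^ q ^ i)⁻¹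
  have hA : A.card = d := by
    rw [Finset.card_image_of_injOn, Finset.card_range]
    intro i hi j hj h
    rw [Finset.coe_range, Set.mem_Iio] at hi hj
    rcases le_total i j with hh | hh
    · exact hlt i j hh hj (Or.inl h.symm)
    · exact (hlt j i hh hi (Or.inl h)).symm
  have hA' : A'.card = d := by
    rw [show A' = A.image (·⁻¹) by rw [Finset.image_image]; rfl, Finset.card_image_of_injective _ inv_injective, hA]
  have hdis : Disjoint A A' := by
    rw [Finset.disjoint_left]
    intro x hx hx'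
    obtain ⟨i, hi, rfl⟩ := Finset.mem_image.1 hx
    obtain ⟨j, hj, he⟩ := Finset.mem_image.1 hx'
    rw [Finset.mem_range] at hi hj
    have hij : i = j := by
      rcases le_total i j with hh | hh
      · exact hlt i j hh hj (Or.inr (by rw [← he, inv_inv]))
      · exact (hlt j i hh hi (Or.inr he.symm)).symm
    subst hij
    exact hsq (hinj i (by show a ^ q ^ i = a⁻¹ ^ q ^ i; rw [inv_pow, he]))
  set S := A ∪ A' with hS
  have hform : ∀ b ∈ S, ∃ i, b = a ^ q ^ i ∨ b = (a ^ q ^ i)⁻¹ := by
    intro b hb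
    rcases Finset.mem_union.1 hb with hb | hb <;> obtain ⟨i, -, rfl⟩ := Finset.mem_image.1 hb
    · exact ⟨i, Or.inl rfl⟩
    · exact ⟨i, Or.inr rfl⟩
  have hinv : ∀ b ∈ S, b⁻¹ ∈ S := by
    intro b hb
    rcases Finset.mem_union.1 hb with hb | hb <;> obtain ⟨i, hi, rfl⟩ := Finset.mem_image.1 hb
    · exact Finset.mem_union_right _ (Finset.mem_image_of_mem _ hi)
    · rw [inv_inv]; exact Finset.mem_union_left _ (Finset.mem_image_of_mem _ hi)
  have haS : a ∈ S := Finset.mem_union_left _ (Finset.mem_image.2 ⟨0, Finset.mem_range.2 hd1, by simp⟩)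
  have hfw : ∀ b ∈ S, b ^ q ∈ S := by
    intro b hb
    have key : ∀ i < d, (a ^ q ^ i) ^ q ∈ S := by
      intro i hi
      rw [← pow_mul, ← pow_succ]
      rcases eq_or_ne (i + 1) d with h | h
      · rw [h]
        rcases hdd with h' | h' <;> rw [h']
        · exact haS
        · exact hinv a haS
      · exact Finset.mem_union_left _ (Finset.mem_image.2 ⟨i + 1, Finset.mem_range.2 (by omega), rfl⟩)
    rcases Finset.mem_union.1 hb with hb | hb <;> obtain ⟨i, hi, rfl⟩ := Finset.mem_image.1 hb
    · exact key i (Finset.mem_range.1 hi)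
    · rw [inv_pow]; exact hinv _ (key i (Finset.mem_range.1 hi))
  have hbw : ∀ b, b ^ q ∈ S → b ∈ S := by
    intro b hb
    have he : S.image (· ^ q) = S := Finset.eq_of_subset_of_card_le
      (Finset.image_subset_iff.2 hfw) (by rw [Finset.card_image_of_injective _ (pow_card_injective (F := F))])
    rw [← he] at hb
    obtain ⟨c, hc, hcb⟩ := Finset.mem_image.1 hb
    exact pow_card_injective (F := F) hcb ▸ hc
  have hbw' : ∀ i b, b ^ q ^ i ∈ S → b ∈ S := by
    intro i
    induction i with
    | zero => intro b hb; simpa using hb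
    | succ i ih => intro b hb; exact hbw b (ih (b ^ q) (by rwa [← pow_mul, ← pow_succ']))
  obtain ⟨η, hη, hN⟩ : ∃ η : ℤ, (η = 1 ∨ η = -1) ∧ a ^ torN q d η = 1 := by
    rcases hdd with h | h
    · refine ⟨1, Or.inl rfl, mul_left_cancel₀ ha0 ?_⟩
      rw [torN, if_pos rfl, ← pow_succ', Nat.sub_add_cancel (Nat.one_le_pow _ _ (by omega)), mul_one]
      exact h
    · refine ⟨-1, Or.inr rfl, ?_⟩
      rw [torN, if_neg (by decide), pow_succ, h, inv_mul_cancel₀ ha0]
  refine ⟨d, η, S, hd1, hη, ?_, haS, fun b hb => ?_, fun b hb => ?_, fun b hb => ?_, hform, fun b i h => hbw' i b ?_⟩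
  · rw [Finset.card_union_of_disjoint hdis, hA, hA', two_mul]
  · obtain ⟨i, rfl | rfl⟩ := hform b hb
    · exact hcount i
    · rw [count_inv hQ, hcount]
  · intro hb1
    have key : ∀ i, a ^ q ^ i ≠ -1 := fun i h =>
      hsq (hinj i (by show a ^ q ^ i = a⁻¹ ^ q ^ i; rw [inv_pow, h]; simp))
    obtain ⟨i, e | e⟩ := hform b hb
    · exact key i (e.symm.trans hb1)
    · exact key i (by rw [← inv_inv (a ^ q ^ i), ← e, hb1]; simp)
  · obtain ⟨i, rfl | rfl⟩ := hform b hb
    · rw [← pow_mul, mul_comm, pow_mul, hN, one_pow]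
    · rw [inv_pow, ← pow_mul, mul_comm, pow_mul, hN, one_pow, inv_one]
  · rcases h with h | h
    · exact h
    · rw [← inv_inv (b ^ q ^ i)]; exact hinv _ h

theorem orderOf_dvd_of_roots {p : ℕ} [Fact p.Prime] [CharP F p] (h2 : (2 : F) ≠ 0) (hQ : PolarND Q) (g : orth Q)
    [DecidableEq (AlgebraicClosure F)] {N P j : ℕ} (hPj : P ≤ p ^ j) (hroot : ∀ a ∈ eig g, a ^ N = 1)
    (hc : ∀ a, a ≠ -1 → (eig g).count a ≤ P)
    (he : (eig g).count (-1) ≤ P ∨ (Odd P ∧ (eig g).count (-1) = P + 1)) :
    orderOf g ∣ N * p ^ j := by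
  have h0 : (toEnd Q g ^ N - 1) ^ P = 0 := by
    rcases he with he | ⟨hP, he⟩
    · exact sub_one_pow_eq_zero g hroot fun a => by
        by_cases ha : a = -1
        · exact ha ▸ he
        · exact hc a ha
    · exact sub_one_pow_eq_zero' h2 hQ g hP hroot hc he
  have hpoly : ((X : F[X]) ^ N - 1) ^ p ^ j = X ^ (N * p ^ j) - 1 := by
    haveI : ExpChar F p := ExpChar.prime Fact.out
    rw [sub_pow_expChar_pow, one_pow, ← pow_mul]
  have h := congrArg (aeval (toEnd Q g)) hpoly
  simp only [map_pow, map_sub, aeval_X, map_one] at h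
  rw [pow_eq_zero_of_le hPj h0, eq_comm, sub_eq_zero, ← toEnd_pow] at h
  refine orderOf_dvd_of_pow_eq_one (orth_ext fun x => ?_)
  exact LinearMap.congr_fun h x

theorem sum_count_le (g : orth Q) [DecidableEq (AlgebraicClosure F)] (T : Finset (AlgebraicClosure F)) :
    ∑ b ∈ T, (eig g).count b ≤ Module.finrank F V := by
  rw [← card_eig g, ← Multiset.sum_count_eq_card (s := T ∪ (eig g).toFinset)
    (fun a ha => Finset.mem_union_right _ (Multiset.mem_toFinset.2 ha))]
  exact Finset.sum_le_sum_of_subset Finset.subset_union_left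

theorem exists_root_pow {g : orth Q} {x : V} (hx : x ≠ 0) {j : ℕ} (hj : (g ^ j).1 x = x) :
    ∃ a ∈ eig g, a ^ j = 1 := by
  set χ := (toEnd Q g).charpoly
  by_contra hno
  push Not at hno
  have hcop : IsCoprime χ ((X : F[X]) ^ j - 1) := by
    rcases eq_or_ne ((X : F[X]) ^ j - 1) 0 with h0 | h0
    · exfalso
      have hj0 : j = 0 := by
        by_contra hj0
        have := congrArg (fun f : F[X] => f.coeff j) h0
        simp [coeff_one, hj0] at this
      have hroots : eig g = 0 := Multiset.eq_zero_of_forall_notMem fun a ha => hno a ha (by simp [hj0])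
      have hc := card_eig g
      rw [hroots, Multiset.card_zero] at hc
      haveI : Subsingleton V := Module.finrank_zero_iff.1 hc.symm
      exact hx (Subsingleton.elim _ _)
    refine EuclideanDomain.isCoprime_of_dvd (fun h => h0 h.2) fun z hz hz0 h1 h2 => ?_
    obtain ⟨r, hr⟩ := IsAlgClosed.exists_aeval_eq_zero (AlgebraicClosure F) z
      (fun hd => hz (Polynomial.isUnit_iff_degree_eq_zero.2 hd))
    have m1 := aeval_eq_zero_of_dvd_aeval_eq_zero h1 hr
    have m2 := aeval_eq_zero_of_dvd_aeval_eq_zero h2 hr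
    refine hno r ?_ (by simpa [sub_eq_zero] using m2)
    rw [eig, mem_roots', IsRoot, eval_map, ← aeval_def]
    exact ⟨((LinearMap.charpoly_monic _).map _).ne_zero, m1⟩
  obtain ⟨u, v, huv⟩ := hcop
  have h := congrArg (fun f => aeval (toEnd Q g) f x) huv
  simp only [map_add, map_mul, map_sub, map_pow, aeval_X, map_one, χ, LinearMap.aeval_self_charpoly, mul_zero,
    zero_add, Module.End.mul_apply, LinearMap.sub_apply, Module.End.one_apply] at h
  rw [show (toEnd Q g ^ j) x = x by rw [← toEnd_pow]; exact hj, sub_self] at h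
  try rw [map_zero] at h
  exact hx h.symm

theorem bound {p : ℕ} [Fact p.Prime] [CharP F p] [Finite V] (h2 : (2 : F) ≠ 0) (hQ : PolarND Q)
    (hdim : Module.finrank F V = 8) (hs : Sig Q 1) (g : orth Q) (hsgn : ∀ c : F, c ≠ 0 → sgnQ Q c g = 1)
    (hfix : ∀ x, g.1 x = x → x = 0) : InList p (Fintype.card F) (orderOf g) := by
  classical
  have hp : p.Prime := Fact.out
  set q := Fintype.card F with hq
  have hodd : Odd q := Nat.odd_iff.2 (FiniteField.odd_card_of_char_ne_two (OrthFix.ringChar_ne_two h2))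
  have hq3 : 3 ≤ q := by
    have := Fintype.one_lt_card (α := F)
    obtain ⟨r, hr⟩ := hodd
    omega
  have hp3 : 3 ≤ p := by
    rcases eq_or_ne p 2 with rfl | hp2
    · exact absurd (CharP.cast_eq_zero F 2) (by exact_mod_cast h2)
    · have := hp.two_le; omega
  set e := (eig g).count (-1) with he
  have hne1 : ∀ a ∈ eig g, a ≠ 1 := by
    intro a ha h1
    subst h1
    rw [eig, mem_roots', IsRoot, ← map_one (algebraMap F (AlgebraicClosure F)), eval_map, eval₂_at_apply,
      map_eq_zero] at ha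
    obtain ⟨x, hx⟩ := ((Module.End.hasEigenvalue_iff_isRoot_charpoly (toEnd Q g) 1).2 ha.2).exists_hasEigenvector
    exact hx.2 (hfix x (by have := hx.apply_eq_smul; rwa [one_smul] at this))
  have orb := fun a (ha : a ∈ eig g) (h1' : a ≠ -1) => exists_orbit hQ g ha (hne1 a ha) h1'
  -- weight of one, two and three orbits together with the eigenvalue `-1`
  have w1 : ∀ {c d : ℕ} {S : Finset (AlgebraicClosure F)}, S.card = 2 * d → (∀ b ∈ S, (eig g).count b = c) →
      (∀ b ∈ S, b ≠ -1) → e + 2 * d * c ≤ 8 := by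
    intro c d S hS hc h1'
    have h := sum_count_le g (insert (-1) S)
    rw [Finset.sum_insert (fun h => h1' _ h rfl), Finset.sum_congr rfl hc, Finset.sum_const, hS, hdim,
      smul_eq_mul] at h
    exact h
  have w2 : ∀ {c c' d d' : ℕ} {S S' : Finset (AlgebraicClosure F)}, S.card = 2 * d → S'.card = 2 * d' →
      (∀ b ∈ S, (eig g).count b = c) → (∀ b ∈ S', (eig g).count b = c') →
      (∀ b ∈ S, b ≠ -1) → (∀ b ∈ S', b ≠ -1) → Disjoint S S' → e + 2 * d * c + 2 * d' * c' ≤ 8 := by
    intro c c' d d' S S' hS hS' hc hc' h1 h1' hd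
    have h := sum_count_le g (insert (-1) (S ∪ S'))
    rw [Finset.sum_insert (fun h => (Finset.mem_union.1 h).elim (fun h => h1 _ h rfl) (fun h => h1' _ h rfl)),
      Finset.sum_union hd, Finset.sum_congr rfl hc, Finset.sum_congr rfl hc', Finset.sum_const, Finset.sum_const,
      hS, hS', hdim, smul_eq_mul, smul_eq_mul] at h
    omega
  have disj : ∀ {a b : AlgebraicClosure F} {S S' : Finset (AlgebraicClosure F)},
      (∀ x ∈ S', ∃ i, x = b ^ q ^ i ∨ x = (b ^ q ^ i)⁻¹) →
      (∀ x i, x ^ q ^ i ∈ S ∨ (x ^ q ^ i)⁻¹ ∈ S → x ∈ S) → b ∉ S → a ∈ S → Disjoint S S' := by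
    intro a b S S' hform hclose hb _
    rw [Finset.disjoint_right]
    intro x hx hxS
    obtain ⟨i, rfl | rfl⟩ := hform x hx
    · exact hb (hclose b i (Or.inl hxS))
    · exact hb (hclose b i (Or.inr hxS))
  have hneg : ∀ N, Even N → (-1 : AlgebraicClosure F) ^ N = 1 := fun N h => h.neg_one_pow
  have hNe : ∀ d η, Even (torN q d η) := fun d η => by
    unfold torN
    split_ifs
    · exact Nat.Odd.sub_odd hodd.pow odd_one
    · exact hodd.pow.add_odd odd_one
  have hqm : Even (q - 1) := Nat.Odd.sub_odd hodd odd_one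
  have hmem : ∀ a, 0 < (eig g).count a → a ∈ eig g := fun a => Multiset.count_pos.1
  -- orbit weight bound for one root
  have hw : ∀ a ∈ eig g, a ≠ -1 → e + 2 ≤ 8 ∧ e + 2 * (eig g).count a ≤ 8 := by
    intro a ha h1'
    obtain ⟨d, η, S, hd, -, hS, -, hc, hn, -, -, -⟩ := orb a ha h1'
    have h := w1 hS hc hn
    have hpos := Multiset.count_pos.2 ha
    have : 2 * (eig g).count a ≤ 2 * d * (eig g).count a := Nat.mul_le_mul_right _ (by omega)
    omega
  have tor1 : ∀ {η : ℤ}, (η = 1 ∨ η = -1) → torN q 1 η = q - 1 ∨ torN q 1 η = q + 1 := by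
    rintro η (rfl | rfl)
    · exact Or.inl (by simp [torN])
    · exact Or.inr (by simp [torN])
  have hq2m : (q - 1) ∣ q ^ 2 - 1 ∧ (q + 1) ∣ q ^ 2 - 1 := by
    rw [show q ^ 2 - 1 = (q + 1) * (q - 1) by rw [← Nat.sq_sub_sq, one_pow]]
    exact ⟨dvd_mul_left _ _, dvd_mul_right _ _⟩
  by_cases hA : 7 ≤ e
  · -- only the eigenvalue -1
    have hall : ∀ a ∈ eig g, a = -1 := fun a ha => by
      by_contra h1'
      have := (hw a ha h1').1
      omega
    have he8 : e = 8 := by
      rw [he, Multiset.count_eq_card.2 fun a ha => (hall a ha).symm, card_eig, hdim]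
    have hroot : ∀ a ∈ eig g, a ^ 2 = 1 := fun a ha => by rw [hall a ha]; exact neg_one_sq
    have hcnt : ∀ a, a ≠ -1 → (eig g).count a ≤ 7 := fun a ha => by
      rw [Multiset.count_eq_zero.2 fun h => ha (hall a h)]; omega
    have key := fun j (hj : 7 ≤ p ^ j) => orderOf_dvd_of_roots h2 hQ g hj hroot hcnt (Or.inr ⟨by decide, he8⟩)
    rcases eq_or_ne p 3 with rfl | hp3'
    · refine Or.inr (Or.inr (Or.inr (Or.inr (Or.inr (Or.inr (Or.inl ⟨rfl, Or.inl ((key 2 (by norm_num)).trans ?_)⟩))))))
      rw [mul_comm]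
      exact mul_dvd_mul_left 9 hqm.two_dvd
    rcases eq_or_ne p 5 with rfl | hp5
    · exact Or.inr (Or.inr (Or.inr (Or.inr (Or.inr (Or.inr (Or.inr ⟨rfl, key 2 (by norm_num)⟩))))))
    · have hp7 : 7 ≤ p := by
        by_contra h
        interval_cases p <;> first | omega | exact absurd hp (by decide)
      refine Or.inr (Or.inr (Or.inr (Or.inl ((key 1 (by rw [pow_one]; exact hp7)).trans ?_))))
      rw [pow_one, mul_comm]
      exact mul_dvd_mul_left p (hqm.two_dvd.trans hq2m.1)
  by_cases hB : 5 ≤ e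
  · -- e = 5, 6
    have hcnt : ∀ a, a ≠ -1 → (eig g).count a ≤ 5 := fun a h1' => by
      rcases Nat.eq_zero_or_pos ((eig g).count a) with h | h
      · omega
      · have := (hw a (hmem a h) h1').2
        omega
    have hcnt' : e ≤ 5 ∨ (Odd 5 ∧ e = 5 + 1) := by
      rcases (show e = 5 ∨ e = 6 by omega) with h | h
      · exact Or.inl h.le
      · exact Or.inr ⟨by decide, h⟩
    obtain ⟨N, hN1, hN⟩ : ∃ N, (N = q - 1 ∨ N = q + 1) ∧ ∀ a ∈ eig g, a ^ N = 1 := by
      by_cases hall : ∃ a ∈ eig g, a ≠ -1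
      · obtain ⟨a, ha, h1'⟩ := hall
        obtain ⟨d, η, S, hd, hη, hS, haS, hc, hn, hpw, -, hcl⟩ := orb a ha h1'
        have h := w1 hS hc hn
        have hpos := Multiset.count_pos.2 ha
        have hd1 : d = 1 := by
          by_contra hh
          have : 4 * 1 ≤ 2 * d * (eig g).count a := Nat.mul_le_mul (by omega) hpos
          omega
        subst hd1
        refine ⟨_, tor1 hη, fun b hb => ?_⟩
        by_cases hb1 : b = -1
        · rw [hb1]; exact hneg _ (hNe 1 η)
        by_cases hbS : b ∈ S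
        · exact hpw b hbS
        exfalso
        obtain ⟨d', η', S', hd', -, hS', -, hc', hn', -, hform', -⟩ := orb b hb hb1
        have h' := w2 hS hS' hc hc' hn hn' (disj (a := a) hform' hcl hbS haS)
        have hpos' := Multiset.count_pos.2 hb
        have : 2 * 1 ≤ 2 * d' * (eig g).count b := Nat.mul_le_mul (by omega) hpos'
        omega
      · push Not at hall
        exact ⟨q - 1, Or.inl rfl, fun a ha => by rw [hall a ha]; exact hneg _ hqm⟩
    have key := fun j (hj : 5 ≤ p ^ j) => orderOf_dvd_of_roots h2 hQ g hj hN hcnt hcnt'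
    rcases eq_or_ne p 3 with rfl | hp3'
    · refine Or.inr (Or.inr (Or.inr (Or.inr (Or.inr (Or.inr (Or.inl ⟨rfl, ?_⟩))))))
      have h := key 2 (by norm_num)
      rw [mul_comm] at h
      rcases hN1 with rfl | rfl
      · exact Or.inl h
      · exact Or.inr h
    · have hp5 : 5 ≤ p := by
        by_contra h
        interval_cases p <;> first | omega | exact absurd hp (by decide)
      refine Or.inr (Or.inr (Or.inr (Or.inl ((key 1 (by rw [pow_one]; exact hp5)).trans ?_))))
      rw [pow_one, mul_comm]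
      refine mul_dvd_mul_left p ?_
      rcases hN1 with rfl | rfl
      · exact hq2m.1
      · exact hq2m.2
  by_cases hC : ∃ a ∈ eig g, a ≠ -1 ∧ 4 ≤ (eig g).count a
  · -- one orbit of multiplicity four
    obtain ⟨a, ha, h1', h4⟩ := hC
    obtain ⟨d, η, S, hd, hη, hS, haS, hc, hn, hpw, -, hcl⟩ := orb a ha h1'
    have h := w1 hS hc hn
    have hd1 : d = 1 := by
      by_contra hh
      have : 4 * 4 ≤ 2 * d * (eig g).count a := Nat.mul_le_mul (by omega) h4
      omega
    subst hd1
    have hall : ∀ b ∈ eig g, b ∈ S := fun b hb => by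
      by_contra hbS
      have hb1 : b ≠ -1 := fun hb1 => by
        have : 0 < e := by rw [he, ← hb1]; exact Multiset.count_pos.2 hb
        omega
      obtain ⟨d', η', S', hd', -, hS', -, hc', hn', -, hform', -⟩ := orb b hb hb1
      have h' := w2 hS hS' hc hc' hn hn' (disj (a := a) hform' hcl hbS haS)
      have hpos' := Multiset.count_pos.2 hb
      have : 2 * 1 ≤ 2 * d' * (eig g).count b := Nat.mul_le_mul (by omega) hpos'
      omega
    have key := fun j (hj : 4 ≤ p ^ j) => orderOf_dvd_of_roots h2 hQ g hj (N := torN q 1 η)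
      (fun b hb => hpw b (hall b hb))
      (fun b _ => by
        rcases Nat.eq_zero_or_pos ((eig g).count b) with hz | hz
        · omega
        · rw [hc b (hall b (hmem b hz))]; omega)
      (Or.inl (by omega))
    rcases eq_or_ne p 3 with rfl | hp3'
    · refine Or.inr (Or.inr (Or.inr (Or.inr (Or.inr (Or.inr (Or.inl ⟨rfl, ?_⟩))))))
      have h := key 2 (by norm_num)
      rw [mul_comm] at h
      rcases tor1 hη with hh | hh <;> rw [hh] at h
      · exact Or.inl h
      · exact Or.inr h
    · refine Or.inr (Or.inr (Or.inr (Or.inl ((key 1 (by rw [pow_one]; omega)).trans ?_))))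
      rw [pow_one, mul_comm]
      refine mul_dvd_mul_left p ?_
      rcases tor1 hη with hh | hh <;> rw [hh]
      · exact hq2m.1
      · exact hq2m.2
  push Not at hC
  by_cases hD : 3 ≤ e ∨ ∃ a ∈ eig g, a ≠ -1 ∧ 2 ≤ (eig g).count a
  · -- a repeated eigenvalue, multiplicity at most three
    have hcnt : ∀ a, a ≠ -1 → (eig g).count a ≤ 3 := fun a h1' => by
      rcases Nat.eq_zero_or_pos ((eig g).count a) with h | h
      · omega
      · have := hC a (hmem a h) h1'
        omega
    have hcnt' : e ≤ 3 ∨ (Odd 3 ∧ e = 3 + 1) := by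
      rcases (show e ≤ 3 ∨ e = 4 by omega) with h | h
      · exact Or.inl h
      · exact Or.inr ⟨by decide, h⟩
    have key : ∀ {N}, (∀ a ∈ eig g, a ^ N = 1) → orderOf g ∣ p * N := fun hN => by
      have h := orderOf_dvd_of_roots h2 hQ g (j := 1) (p := p) (by rw [pow_one]; exact hp3) hN hcnt hcnt'
      rwa [pow_one, mul_comm] at h
    by_cases h2d : ∃ a ∈ eig g, a ≠ -1 ∧ ¬ a ^ (q ^ 2 - 1) = 1
    · obtain ⟨a, ha, h1', hnp⟩ := h2d
      obtain ⟨d, η, S, hd, hη, hS, haS, hc, hn, hpw, -, hcl⟩ := orb a ha h1'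
      have h := w1 hS hc hn
      have hpos := Multiset.count_pos.2 ha
      have hd2 : 2 ≤ d := by
        by_contra hh
        obtain rfl : d = 1 := by omega
        refine hnp ?_
        have hdv : torN q 1 η ∣ q ^ 2 - 1 := by
          rcases tor1 hη with hh | hh <;> rw [hh]
          · exact hq2m.1
          · exact hq2m.2
        obtain ⟨r, hr⟩ := hdv
        rw [hr, pow_mul, hpw a haS, one_pow]
      have hmul : d * 2 ≤ 2 * d * (eig g).count a := by
        rw [mul_comm d 2]; exact Nat.le_mul_of_pos_right _ hpos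
      by_cases hall : ∀ b ∈ eig g, b ≠ -1 → b ∈ S
      · have hd2' : d = 2 := by
          by_contra hh
          rcases hD with hD | ⟨b, hb, hb1, hb2⟩
          · omega
          · rw [hc b (hall b hb hb1)] at hb2
            have : 6 * 2 ≤ 2 * d * (eig g).count a := Nat.mul_le_mul (by omega) hb2
            omega
        subst hd2'
        have h' := key (N := torN q 2 η) fun b hb => by
          by_cases hb1 : b = -1
          · rw [hb1]; exact hneg _ (hNe 2 η)
          · exact hpw b (hall b hb hb1)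
        rcases hη with rfl | rfl
        · rw [torN, if_pos rfl] at h'
          exact Or.inr (Or.inr (Or.inr (Or.inl h')))
        · rw [torN, if_neg (by decide)] at h'
          exact Or.inr (Or.inr (Or.inr (Or.inr (Or.inl (h'.trans (mul_dvd_mul_left p (Nat.dvd_lcm_left _ _)))))))
      · push Not at hall
        obtain ⟨b, hb, hb1, hbS⟩ := hall
        obtain ⟨d', η', S', hd', hη', hS', hbS', hc', hn', hpw', hform', hcl'⟩ := orb b hb hb1
        have h' := w2 hS hS' hc hc' hn hn' (disj (a := a) hform' hcl hbS haS)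
        have hpos' := Multiset.count_pos.2 hb
        have hmul' : d' * 2 ≤ 2 * d' * (eig g).count b := by
          rw [mul_comm d' 2]; exact Nat.le_mul_of_pos_right _ hpos'
        obtain ⟨c, hc0, hc1, hc2⟩ : ∃ c ∈ eig g, c ≠ -1 ∧ 2 ≤ (eig g).count c := by
          rcases hD with hD | hD
          · omega
          · exact hD
        have hca : c ∉ S := fun hcS => by
          rw [hc c hcS] at hc2
          have : 4 * 2 ≤ 2 * d * (eig g).count a := Nat.mul_le_mul (by omega) hc2
          omega
        obtain ⟨d'', η'', S'', hd'', hη'', hS'', hcS'', hc'', hn'', hpw'', hform'', hcl''⟩ := orb c hc0 hc1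
        have h'' := w2 hS hS'' hc hc'' hn hn'' (disj (a := a) hform'' hcl hca haS)
        have hmul'' : 4 * d'' ≤ 2 * d'' * (eig g).count c := by
          calc 4 * d'' = 2 * d'' * 2 := by ring
            _ ≤ _ := Nat.mul_le_mul_left _ hc2
        obtain rfl : d = 2 := by omega
        obtain rfl : d'' = 1 := by omega
        have hN : ∀ x ∈ eig g, x ^ Nat.lcm (torN q 2 η) (torN q 1 η'') = 1 := by
          intro x hx
          by_cases hx1 : x = -1
          · rw [hx1]; exact hneg _ ((hNe 2 η).two_dvd.trans (Nat.dvd_lcm_left _ _) |> even_iff_two_dvd.2)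
          by_cases hxS : x ∈ S
          · obtain ⟨r, hr⟩ := Nat.dvd_lcm_left (torN q 2 η) (torN q 1 η'')
            rw [hr, pow_mul, hpw x hxS, one_pow]
          by_cases hxS'' : x ∈ S''
          · obtain ⟨r, hr⟩ := Nat.dvd_lcm_right (torN q 2 η) (torN q 1 η'')
            rw [hr, pow_mul, hpw'' x hxS'', one_pow]
          exfalso
          have hs3 := sum_count_le g (insert x (S ∪ S''))
          rw [Finset.sum_insert (by simp [hxS, hxS'']), Finset.sum_union (disj (a := a) hform'' hcl hca haS),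
            Finset.sum_congr rfl hc, Finset.sum_congr rfl hc'', Finset.sum_const, Finset.sum_const, hS, hS'',
            hdim, smul_eq_mul, smul_eq_mul] at hs3
          have hx0 := Multiset.count_pos.2 hx
          omega
        have h3 := key hN
        rcases hη with rfl | rfl
        · refine Or.inr (Or.inr (Or.inr (Or.inl (h3.trans (mul_dvd_mul_left p (Nat.lcm_dvd ?_ ?_))))))
          · rw [torN, if_pos rfl]
          · rcases tor1 hη'' with hh | hh <;> rw [hh]
            · exact hq2m.1
            · exact hq2m.2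
        · rw [show torN q 2 (-1) = q ^ 2 + 1 from if_neg (by decide)] at h3
          rcases tor1 hη'' with hh | hh <;> rw [hh] at h3
          · exact Or.inr (Or.inr (Or.inr (Or.inr (Or.inl h3))))
          · exact Or.inr (Or.inr (Or.inr (Or.inr (Or.inr (Or.inl h3)))))
    · push Not at h2d
      refine Or.inr (Or.inr (Or.inr (Or.inl (key fun a ha => ?_))))
      by_cases h1' : a = -1
      · rw [h1']; exact hneg _ (Nat.Odd.sub_odd hodd.pow odd_one)
      · exact h2d a ha h1'
  -- all multiplicities one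
  push Not at hD
  have hcnt : ∀ a, a ≠ -1 → (eig g).count a ≤ 1 := fun a h1' => by
    rcases Nat.eq_zero_or_pos ((eig g).count a) with h | h
    · omega
    · have := hD.2 a (hmem a h) h1'
      omega
  have hcnt' : e ≤ 1 ∨ (Odd 1 ∧ e = 1 + 1) := by
    rcases (show e ≤ 1 ∨ e = 2 by omega) with h | h
    · exact Or.inl h
    · exact Or.inr ⟨odd_one, h⟩
  have key : ∀ {N}, (∀ a ∈ eig g, a ^ N = 1) → orderOf g ∣ N := fun hN => by
    have h := orderOf_dvd_of_roots h2 hQ g (j := 0) (p := p) (by simp) hN hcnt hcnt'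
    rwa [pow_zero, mul_one] at h
  have hq4 : (q ^ 2 - 1) * (q ^ 2 + 1) = q ^ 4 - 1 := by
    rw [mul_comm, ← Nat.sq_sub_sq, one_pow, ← pow_mul]
  have hev2 : Even (q ^ 2 - 1) ∧ Even (q ^ 2 + 1) :=
    ⟨Nat.Odd.sub_odd hodd.pow odd_one, hodd.pow.add_odd odd_one⟩
  have hh4 : q ^ 2 - 1 ∣ (q ^ 4 - 1) / 2 ∧ q ^ 2 + 1 ∣ (q ^ 4 - 1) / 2 := by
    obtain ⟨⟨r, hr⟩, ⟨s, hs⟩⟩ := hev2
    rw [← hq4, hr, hs]
    constructor
    · exact ⟨s, by rw [show (r + r) * (s + s) = (r + r) * s * 2 by ring, Nat.mul_div_cancel _ two_pos]⟩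
    · exact ⟨r, by rw [show (r + r) * (s + s) = (s + s) * r * 2 by ring, Nat.mul_div_cancel _ two_pos]⟩
  by_cases h3 : ∃ a ∈ eig g, a ≠ -1 ∧ ¬ a ^ ((q ^ 4 - 1) / 2) = 1
  · obtain ⟨a, ha, h1', hnp⟩ := h3
    obtain ⟨d, η, S, hd, hη, hS, haS, hc, hn, hpw, hform, hcl⟩ := orb a ha h1'
    have h := w1 hS hc hn
    have hca : (eig g).count a = 1 := le_antisymm (hcnt a h1') (Multiset.count_pos.2 ha)
    rw [hca, mul_one] at h
    have hd3 : 3 ≤ d := by
      by_contra hh
      refine hnp ?_
      have hdv : torN q d η ∣ (q ^ 4 - 1) / 2 := by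
        rcases (show d = 1 ∨ d = 2 by omega) with rfl | rfl
        · rcases tor1 hη with hh | hh <;> rw [hh]
          · exact hq2m.1.trans hh4.1
          · exact hq2m.2.trans hh4.1
        · unfold torN
          split_ifs
          · exact hh4.1
          · exact hh4.2
      obtain ⟨r, hr⟩ := hdv
      rw [hr, pow_mul, hpw a haS, one_pow]
    rcases (show d = 3 ∨ d = 4 by omega) with rfl | rfl
    · -- an orbit of size six
      obtain ⟨N, hN1, hN⟩ : ∃ η' : ℤ, (η' = 1 ∨ η' = -1) ∧
          ∀ x ∈ eig g, x ^ Nat.lcm (torN q 3 η) (torN q 1 η') = 1 := by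
        have hS3 : ∀ η' : ℤ, ∀ x ∈ S, x ^ Nat.lcm (torN q 3 η) (torN q 1 η') = 1 := fun η' x hx => by
          obtain ⟨r, hr⟩ := Nat.dvd_lcm_left (torN q 3 η) (torN q 1 η')
          rw [hr, pow_mul, hpw x hx, one_pow]
        have hev : ∀ η' : ℤ, Even (Nat.lcm (torN q 3 η) (torN q 1 η')) := fun η' =>
          even_iff_two_dvd.2 ((hNe 3 η).two_dvd.trans (Nat.dvd_lcm_left _ _))
        by_cases hall : ∀ b ∈ eig g, b ≠ -1 → b ∈ S
        · refine ⟨1, Or.inl rfl, fun x hx => ?_⟩
          by_cases hx1 : x = -1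
          · rw [hx1]; exact hneg _ (hev 1)
          · exact hS3 1 x (hall x hx hx1)
        · push Not at hall
          obtain ⟨b, hb, hb1, hbS⟩ := hall
          obtain ⟨d', η', S', hd', hη', hS', hbS', hc', hn', hpw', hform', hcl'⟩ := orb b hb hb1
          have h' := w2 hS hS' hc hc' hn hn' (disj (a := a) hform' hcl hbS haS)
          have hcb : (eig g).count b = 1 := le_antisymm (hcnt b hb1) (Multiset.count_pos.2 hb)
          rw [hca, hcb, mul_one, mul_one] at h'
          obtain rfl : d' = 1 := by omega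
          refine ⟨η', hη', fun x hx => ?_⟩
          by_cases hx1 : x = -1
          · rw [hx1]; exact hneg _ (hev η')
          by_cases hxS : x ∈ S
          · exact hS3 η' x hxS
          by_cases hxS' : x ∈ S'
          · obtain ⟨r, hr⟩ := Nat.dvd_lcm_right (torN q 3 η) (torN q 1 η')
            rw [hr, pow_mul, hpw' x hxS', one_pow]
          exfalso
          have hs3 := sum_count_le g (insert x (S ∪ S'))
          rw [Finset.sum_insert (by simp [hxS, hxS']), Finset.sum_union (disj (a := a) hform' hcl hbS haS),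
            Finset.sum_congr rfl hc, Finset.sum_congr rfl hc', Finset.sum_const, Finset.sum_const, hS, hS',
            hdim, smul_eq_mul, smul_eq_mul, hca, hcb] at hs3
          have hx0 := Multiset.count_pos.2 hx
          omega
      have h4 := key hN
      have hm : q - 1 ∣ q ^ 3 - 1 ∧ q + 1 ∣ q ^ 3 + 1 := by
        refine ⟨Nat.sub_one_dvd_pow_sub_one q 3, ?_⟩
        have := hodd
        exact (by simpa using (Odd.nat_add_dvd_pow_add_pow q 1 (show Odd 3 by decide)))
      rcases hη with rfl | rfl <;> rcases hN1 with rfl | rfl <;>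
        simp only [torN, if_true, show ¬((-1 : ℤ) = 1) by decide, if_false, pow_one] at h4
      · exact Or.inl (h4.trans (Nat.lcm_dvd (Nat.dvd_lcm_left _ _) (hm.1.trans (Nat.dvd_lcm_left _ _))))
      · exact Or.inl h4
      · exact Or.inr (Or.inl h4)
      · exact Or.inr (Or.inl (h4.trans (Nat.lcm_dvd (Nat.dvd_lcm_left _ _) (hm.2.trans (Nat.dvd_lcm_left _ _)))))
    · -- a regular orbit of size eight
      have hall : ∀ b ∈ eig g, b ∈ S := fun b hb => by
        by_contra hbS
        have hs4 := sum_count_le g (insert b S)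
        rw [Finset.sum_insert hbS, Finset.sum_congr rfl hc, Finset.sum_const, hS, hdim, smul_eq_mul, hca] at hs4
        have := Multiset.count_pos.2 hb
        omega
      have hfree : ∀ x : V, x ≠ 0 → ∀ j, (g ^ j).1 x = x → orderOf g ∣ j := by
        intro x hx j hj
        obtain ⟨r, hr, hr1⟩ := exists_root_pow hx hj
        refine key fun b hb => ?_
        obtain ⟨i, hi⟩ := hform r (hall r hr)
        have ha1 : a ^ j = 1 := by
          have hi' : (a ^ q ^ i) ^ j = 1 := by
            rcases hi with hi | hi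
            · rw [← hi]; exact hr1
            · rw [hi, inv_pow, inv_eq_one] at hr1; exact hr1
          rw [← pow_mul, mul_comm, pow_mul] at hi'
          have : ∀ k (y : AlgebraicClosure F), y ^ q ^ k = 1 → y = 1 := by
            intro k
            induction k with
            | zero => intro y hy; simpa using hy
            | succ k ih => intro y hy; exact pow_card_injective (F := F) (by
                show y ^ q = 1 ^ q
                rw [ih (y ^ q) (by rwa [← pow_mul, ← pow_succ']), one_pow])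
          exact this i _ hi'
        obtain ⟨k, hk⟩ := hform b (hall b hb)
        rcases hk with rfl | rfl
        · rw [← pow_mul, mul_comm, pow_mul, ha1, one_pow]
        · rw [inv_pow, ← pow_mul, mul_comm, pow_mul, ha1, one_pow, inv_one]
      haveI := orth_finite (Q := Q)
      set n := orderOf g with hn'
      have hn0 : 0 < n := orderOf_pos g
      have hfree' : ∀ x : V, Q x = 1 → ∀ j, (g ^ j).1 x = x → n ∣ j := fun x hx =>
        hfree x fun h0 => by rw [h0, QuadraticMap.map_zero] at hx; exact zero_ne_one hx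
      have hlev := dvd_level hn0 (pow_orderOf_eq_one g) hfree'
      have hl : level Q (1 : F) = q ^ 3 * (q ^ 4 - 1) := by
        rw [level_eq hs (k := 4) (by norm_num) hdim one_ne_zero, torN, if_pos rfl]
      rw [hl] at hlev
      have hdvd : n ∣ torN q 4 η := key fun b hb => hpw b (hall b hb)
      have hcop : n.Coprime (q ^ 3) := by
        refine Nat.Coprime.coprime_dvd_left hdvd (Nat.Coprime.pow_right 3 ?_)
        rcases hη with rfl | rfl
        · rw [torN, if_pos rfl]
          have h1 : 1 ≤ q ^ 4 := Nat.one_le_pow _ _ (by omega)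
          refine Nat.Coprime.coprime_dvd_right (dvd_pow_self q (show 4 ≠ 0 by norm_num)) ?_
          have := Nat.coprime_self_sub_left (m := 1) h1
          exact this.2 (Nat.coprime_one_left _)
        · rw [torN, if_neg (by decide), pow_succ, add_comm]
          simp [Nat.coprime_add_mul_right_left]
      have hn4 : n ∣ q ^ 4 - 1 := hcop.dvd_of_dvd_mul_left hlev
      refine Or.inr (Or.inr (Or.inl ?_))
      have he4 : Even (q ^ 4 - 1) := Nat.Odd.sub_odd hodd.pow odd_one
      rcases Nat.even_or_odd n with hne | hno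
      · obtain ⟨L, hL⟩ := hn4
        have h1 := sgnQ_semiregular (t := g) (L := q ^ 3 * L) (c := (1 : F)) hne hn0 (pow_orderOf_eq_one g) hfree'
          (by rw [hl, hL]; ring)
        rw [hsgn 1 one_ne_zero] at h1
        have hLe : Even L := by
          rcases Nat.even_or_odd L with hh | hh
          · exact hh
          · rw [(hodd.pow.mul hh).neg_one_pow] at h1; exact absurd h1 (by decide)
        obtain ⟨s, rfl⟩ := hLe
        exact ⟨s, by rw [hL, show n * (s + s) = n * s * 2 by ring, Nat.mul_div_cancel _ two_pos]⟩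
      · refine (Nat.Coprime.dvd_of_dvd_mul_right (Nat.coprime_two_right.2 hno) ?_)
        rw [Nat.div_mul_cancel he4.two_dvd]
        exact hn4
  · push Not at h3
    refine Or.inr (Or.inr (Or.inl (key fun a ha => ?_)))
    by_cases h1' : a = -1
    · rw [h1']
      exact hneg _ (even_iff_two_dvd.2 (hev2.1.two_dvd.trans hh4.1))
    · exact h3 a ha h1'

end Cfsg.Agent.O9Spec80
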