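import Cfsg.Agent.O9Spec80.Realise

/-!
The element orders of `Ω(V)`, `dim V = 9`, against those of `W ⋊ Ω(W)` for a hyperplane `W` of minus type.
-/

set_option autoImplicit false
set_option linter.unusedSectionVars false

namespace Cfsg.Agent.O9Spec80

open QuadraticMap
open Cfsg.Agent.UnitaryOrthogonal (orth orth_ext PolarND level orthCongr)
open Cfsg.Agent.OrthFix

universe u v w

variable {F : Type u} [Field F] [Fintype F] {V : Type v} [AddCommGroup V] [Module F V] [FiniteDimensional F V]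
variable {V' : Type w} [AddCommGroup V'] [Module F V'] [FiniteDimensional F V']
variable {Q : QuadraticForm F V} {Q' : QuadraticForm F V'}

/-- the determinant -/
noncomputable def detQ (Q : QuadraticForm F V) : orth Q →* F := LinearMap.det.comp (toEnd Q)

omit [Fintype F] in
theorem detQ_eq_one {g : orth Q} (hg : g ∈ commutator (orth Q)) : detQ Q g = 1 := by
  have h := congrArg Units.val (Abelianization.commutator_subset_ker
    ((LinearEquiv.det).comp (orth Q).subtype) hg)
  show LinearMap.det (g.1.toLinearMap) = 1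
  simpa using h

theorem detQ_of_no_fixed (hQ : PolarND Q) {g : orth Q} (h : ∀ x, g.1 x = x → x = 0) :
    detQ Q g = (-1) ^ Module.finrank F V := by
  let b := Module.finBasis F V
  set M := LinearMap.toMatrix b b (toEnd Q g)
  set J := LinearMap.BilinForm.toMatrix b (polarBilin Q) with hJ
  have h1 : M.transpose * J * M = J := by
    rw [← LinearMap.BilinForm.toMatrix_comp b b (polarBilin Q) (toEnd Q g) (toEnd Q g), hJ]
    congr 1
    exact LinearMap.ext fun x => LinearMap.ext fun y => UnitaryOrthogonal.map_polar g x y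
  have hJd : J.det ≠ 0 := (LinearMap.BilinForm.nondegenerate_iff_det_ne_zero b).1 (nondegenerate_of_polarND hQ)
  have hd : (M - 1).det ≠ 0 := by
    rw [show M - 1 = LinearMap.toMatrix b b (toEnd Q g - 1) by rw [map_sub, LinearMap.toMatrix_one], LinearMap.det_toMatrix]
    intro h0
    have hbot := mt LinearMap.ker_eq_bot'.2 (fun hk => (LinearMap.bot_lt_ker_of_det_eq_zero h0).ne' hk)
    exact hbot fun x hx => h x (sub_eq_zero.1 hx)
  have key : (M - 1).transpose * (J * M) = -(J * (M - 1)) := by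
    rw [Matrix.transpose_sub, Matrix.transpose_one, sub_mul, one_mul, ← mul_assoc, h1, mul_sub, mul_one]
    abel
  have h2 := congrArg Matrix.det key
  rw [Matrix.det_mul, Matrix.det_transpose, Matrix.det_mul, Matrix.det_neg, Matrix.det_mul, Fintype.card_fin] at h2
  have h3 : M.det = (-1) ^ Module.finrank F V := by
    refine mul_left_cancel₀ (mul_ne_zero hd hJd) ?_
    linear_combination h2
  show LinearMap.det (toEnd Q g) = _
  rw [← LinearMap.det_toMatrix b, h3]

theorem detQ_glue {U : Submodule F V} (hU : NDOn Q U) (h : orth (Q.comp U.subtype)) :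
    detQ Q (glue hU h) = detQ (Q.comp U.subtype) h := by
  set e := Submodule.prodEquivOfIsCompl U (perp Q U) hU.isCompl
  have e1 : toEnd Q (glue hU h) =
      e.toLinearMap ∘ₗ ((toEnd (Q.comp U.subtype) h).prodMap LinearMap.id) ∘ₗ e.symm.toLinearMap :=
    LinearMap.ext fun x => rfl
  show LinearMap.det (toEnd Q (glue hU h)) = LinearMap.det (toEnd (Q.comp U.subtype) h)
  rw [e1, LinearMap.det_conj, LinearMap.det_prodMap, LinearMap.det_id, mul_one]

theorem perp_le_of_le {U W : Submodule F V} (h : U ≤ perp Q W) : W ≤ perp Q U := fun w hw =>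
  mem_perp.2 fun u hu => by rw [polar_comm]; exact mem_perp.1 (h hu) w hw

theorem perp_perp_le (hQ : PolarND Q) {U : Submodule F V} (hU : NDOn Q U) : perp Q (perp Q U) ≤ U := by
  intro x hx
  obtain ⟨a, ha, r, hr, rfl⟩ := Submodule.mem_sup.1 (hU.isCompl.sup_eq_top ▸ Submodule.mem_top : x ∈ U ⊔ perp Q U)
  obtain ⟨hW, -, -⟩ := (ndOn_top hQ).inf_perp hU le_top
  rw [top_inf_eq] at hW
  have h0 : r = 0 := ndOn_iff.1 hW r hr fun v hv => by
    have h := mem_perp.1 hx v hv
    rw [polar_comm Q v, polar_add_left, mem_perp.1 hv a ha, zero_add] at h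
    exact h
  rw [h0, add_zero]; exact ha

theorem map_mem_perp {g : orth Q} {U : Submodule F V} (hg : ∀ u ∈ U, g.1 u = u) {x : V} (hx : x ∈ perp Q U) :
    g.1 x ∈ perp Q U := mem_perp.2 fun u hu => by
  conv_lhs => rw [← hg u hu]
  rw [UnitaryOrthogonal.map_polar, mem_perp.1 hx u hu]

theorem pow_fix {g : orth Q} {x : V} (h : g.1 x = x) (n : ℕ) : (g ^ n).1 x = x := by
  induction n with
  | zero => rfl
  | succ n ih => rw [pow_succ', UnitaryOrthogonal.coe_mul_apply, ih, h]

theorem toEnd_restr_pow (g : orth Q) (U : Submodule F V) (hU : ∀ x ∈ U, g.1 x ∈ U) (n : ℕ) (x : U) :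
    (((toEnd (Q.comp U.subtype) (restr g U hU)) ^ n) x : V) = (toEnd Q g ^ n) x := by
  rw [← map_pow, ← map_pow]
  exact restr_pow g U hU n x

theorem semiOrd_congr {p : ℕ} (e : Q.IsometryEquiv Q') {n : ℕ} (h : SemiOrd p Q n) : SemiOrd p Q' n := by
  obtain ⟨h, hh, hn⟩ := h
  refine ⟨orthCongr e h, ?_, ?_⟩
  · rw [commutator_def, ← Subgroup.map_top_of_surjective (orthCongr e).toMonoidHom (orthCongr e).surjective,
      ← Subgroup.map_commutator]
    exact Subgroup.mem_map_of_mem (orthCongr e).toMonoidHom hh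
  · rw [MulEquiv.orderOf_eq]
    rcases hn with hn | ⟨hn, v, hv⟩
    · exact Or.inl hn
    · refine Or.inr ⟨hn, e v, ?_⟩
      have hterm : ∀ i, (toEnd Q' (orthCongr e h) ^ i) (e v) = e ((toEnd Q h ^ i) v) := fun i => by
        rw [← map_pow, ← map_pow, ← map_pow]
        exact UnitaryOrthogonal.orthCongr_apply e (h ^ i) v
      rw [LinearMap.sum_apply, Finset.sum_congr rfl fun i _ => hterm i]
      rw [LinearMap.sum_apply] at hv
      intro h0
      have hsum : e.toLinearEquiv (∑ i ∈ Finset.range (orderOf h), (toEnd Q h ^ i) v) = 0 :=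
        (map_sum e.toLinearEquiv _ _).trans h0
      exact hv (e.toLinearEquiv.map_eq_zero_iff.1 hsum)

variable {p : ℕ} [Fact p.Prime] [CharP F p]

omit [Fintype F] in
theorem nilpotent_bound {f : Module.End F V} {k : ℕ} (h : f ^ p ^ k = 1) :
    (f - 1) ^ Module.finrank F V = 0 := by
  have hn : IsNilpotent (f - 1) := ⟨p ^ k, by
    haveI : ExpChar F p := ExpChar.prime Fact.out
    have h' := congrArg (Polynomial.aeval f) (sub_pow_expChar_pow (Polynomial.X : Polynomial F) 1 k (p := p))
    simp only [map_pow, map_sub, Polynomial.aeval_X, map_one, one_pow] at h'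
    rw [h', h, sub_self]⟩
  have hc := hn.charpoly_eq_X_pow_finrank
  have := LinearMap.aeval_self_charpoly (f - 1)
  rwa [hc, map_pow, Polynomial.aeval_X] at this

variable [Finite V]

theorem exists_parts {g : orth Q} (hg : g ∈ commutator (orth Q)) :
    ∃ (m k : ℕ) (x y : orth Q), ¬ p ∣ m ∧ 0 < m ∧ orderOf g = m * p ^ k ∧ orderOf x = m ∧ orderOf y = p ^ k ∧
      x = g ^ p ^ k ∧ y = g ^ m ∧ x ∈ commutator (orth Q) ∧ y ∈ commutator (orth Q) := by
  haveI := orth_finite (Q := Q)
  have hp : p.Prime := Fact.out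
  obtain ⟨k, m, hm, he⟩ := Nat.exists_eq_pow_mul_and_not_dvd (orderOf_pos g).ne' p hp.ne_one
  have hm0 : 0 < m := Nat.pos_of_ne_zero fun h => hm (h ▸ dvd_zero p)
  refine ⟨m, k, g ^ p ^ k, g ^ m, hm, hm0, by rw [he, mul_comm], ?_, ?_, rfl, rfl, pow_mem hg _, pow_mem hg _⟩
  · rw [orderOf_pow' g (pow_pos hp.pos k).ne', he, Nat.gcd_eq_right (dvd_mul_right _ _),
      Nat.mul_div_cancel_left _ (pow_pos hp.pos k)]
  · rw [orderOf_pow' g hm0.ne', he, Nat.gcd_eq_right (dvd_mul_left _ _), Nat.mul_div_cancel _ hm0]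

theorem fix_facts (hQ : PolarND Q) (hodd : Odd (Module.finrank F V)) {x : orth Q} {m : ℕ} (hm : ¬ p ∣ m)
    (hxm : x ^ m = 1) (hx : x ∈ commutator (orth Q)) :
    NDOn Q (fixS x) ∧ Odd (Module.finrank F (fixS x)) := by
  obtain ⟨h1, h2, hperp, hsup⟩ := split_on hxm (fun h => hm ((CharP.cast_eq_zero_iff F p m).1 h))
    (ndOn_top hQ) (fun _ _ => Submodule.mem_top)
  simp only [top_inf_eq] at h1 h2 hperp hsup
  refine ⟨h1, ?_⟩
  have hfixperp : ∀ z ∈ perp Q (mvS x), x.1 z = z := fun z hz => by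
    obtain ⟨a, ha, r, hr, rfl⟩ := Submodule.mem_sup.1 (hsup ▸ Submodule.mem_top : z ∈ fixS x ⊔ mvS x)
    have : r = 0 := ndOn_iff.1 h2 r hr fun v hv => by
      have h := mem_perp.1 hz v hv
      rw [polar_comm Q v, polar_add_left, mem_perp.1 (hperp hv) a ha, zero_add] at h
      exact h
    rw [this, add_zero]
    exact mem_fixS.1 ha
  have hd : detQ (Q.comp (mvS x).subtype) (restr x _ (mvS_invariant x)) = (-1) ^ Module.finrank F (mvS x) :=
    detQ_of_no_fixed h2 fun z hz => Subtype.ext (eq_zero_of_mem hxm (fun h => hm ((CharP.cast_eq_zero_iff F p m).1 h))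
      z.2 (congrArg Subtype.val hz))
  rw [← detQ_glue h2, glue_restr h2 (mvS_invariant x) hfixperp, detQ_eq_one hx] at hd
  have hd2 : Module.finrank F (fixS x) + Module.finrank F (mvS x) = Module.finrank F V := by
    rw [← finrank_sup_of_disjoint (Submodule.disjoint_def.2 fun z hz hz' =>
      eq_zero_of_mem hxm (fun h => hm ((CharP.cast_eq_zero_iff F p m).1 h)) hz' (mem_fixS.1 hz)), hsup, finrank_top]
  have hev : Even (Module.finrank F (mvS x)) := by
    rcases Nat.even_or_odd (Module.finrank F (mvS x)) with he | ho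
    · exact he
    · rw [ho.neg_one_pow] at hd
      exact absurd (show (2 : F) = 0 by linear_combination hd) (two_ne_zero_of_odd hQ hodd)
  rw [Nat.odd_iff] at hodd ⊢
  rw [Nat.even_iff] at hev
  omega

/-- a hyperplane and what it gives -/
theorem forward (h2 : (2 : F) ≠ 0) (hQ : PolarND Q) (hd : Module.finrank F V = 9) {g : orth Q}
    (hg : g ∈ commutator (orth Q)) :
    ∃ (W : Submodule F V) (b : ℕ), NDOn Q W ∧ Module.finrank F W = 8 ∧ SigOn Q W (-1) ∧
      SemiOrd p (Q.comp W.subtype) b ∧ orderOf g ∣ b := by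
  haveI := orth_finite (Q := Q)
  have hp : p.Prime := Fact.out
  have hp2 : p ≠ 2 := by
    rintro rfl
    exact h2 (by exact_mod_cast CharP.cast_eq_zero F 2)
  obtain ⟨ε, hε⟩ := exists_sig hQ
  obtain ⟨m, k, x, y, hm, hm0, hn, hxo, hyo, hxg, hyg, hxc, hyc⟩ := exists_parts (p := p) hg
  have hxm : x ^ m = 1 := hxo ▸ pow_orderOf_eq_one x
  obtain ⟨hF1, hF1odd⟩ := fix_facts (p := p) hQ (by rw [hd]; decide) hm hxm hxc
  set F1 := fixS x with hF1def
  obtain ⟨ε1, hε1⟩ := exists_sig hF1
  -- the perpendicular hyperplane of a one-dimensional subspace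
  have hyper : ∀ {M : Submodule F V} {e : ℤ}, NDOn Q M → Module.finrank F M = 1 → SigOn Q M e →
      NDOn Q (perp Q M) ∧ Module.finrank F (perp Q M) = 8 ∧ SigOn Q (perp Q M) (ε * e) := by
    intro M e hM hMd hMs
    obtain ⟨a, b, c⟩ := (ndOn_top hQ).inf_perp hM le_top
    have c' := c _ _ (sigOn_top hε) hMs
    rw [top_inf_eq] at a b c'
    rw [finrank_top, hd, hMd] at b
    have hb : Module.finrank F (perp Q M) = 8 := by omega
    rw [hMd, hb, sig_even_right (by decide), mul_one] at c'
    exact ⟨a, hb, c'⟩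
  -- restriction to the hyperplane
  have down : ∀ {M : Submodule F V}, NDOn Q M → NDOn Q (perp Q M) → Module.finrank F (perp Q M) = 8 →
      ∀ {h : orth Q}, h ∈ commutator (orth Q) → (∀ z ∈ M, h.1 z = z) →
      ∃ h' ∈ commutator (orth (Q.comp (perp Q M).subtype)), orderOf h' = orderOf h ∧
        ∀ (i : ℕ) (z : perp Q M), ((toEnd _ h' ^ i) z : V) = (toEnd Q h ^ i) z := by
    intro M hM hW hW8 h hh hfix
    have hinv : ∀ z ∈ perp Q M, h.1 z ∈ perp Q M := fun z hz => map_mem_perp hfix hz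
    have hg' : glue hW (restr h _ hinv) = h :=
      glue_restr hW hinv fun z hz => hfix z (perp_perp_le hQ hM hz)
    refine ⟨restr h _ hinv, (glue_mem_iff h2 hQ hW (by omega)).1 (by rw [hg']; exact hh), ?_,
      toEnd_restr_pow h _ hinv⟩
    conv_rhs => rw [← hg']
    exact (orderOf_injective _ (glue_injective hW) _).symm
  have hneg : ε * -ε = -1 := by rw [mul_neg, hε.mul_self]
  by_cases h1 : Module.finrank F F1 = 1
  · -- the fixed space is a line
    have hgfix : ∀ v ∈ F1, g.1 v = v := by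
      intro v hv
      have hgv : g.1 v ∈ F1 := by
        rw [mem_fixS] at hv ⊢
        have hcm : x * g = g * x := by rw [hxg]; exact ((Commute.refl g).pow_left _).eq
        have := congrArg (fun t : orth Q => t.1 v) hcm
        simp only [UnitaryOrthogonal.coe_mul_apply, hv] at this
        exact this
      rcases eq_or_ne v 0 with rfl | hv0
      · exact map_zero _
      obtain ⟨c, hc⟩ := (finrank_eq_one_iff_of_nonzero' (⟨v, hv⟩ : F1)
        (fun h => hv0 (congrArg Subtype.val h))).1 h1 ⟨g.1 v, hgv⟩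
      have hc' : g.1 v = c • v := (congrArg Subtype.val hc).symm
      have hqv : Q v ≠ 0 := by
        intro h0
        refine hv0 (ndOn_iff.1 hF1 v hv fun w hw => ?_)
        obtain ⟨d, hd'⟩ := (finrank_eq_one_iff_of_nonzero' (⟨v, hv⟩ : F1)
          (fun h => hv0 (congrArg Subtype.val h))).1 h1 ⟨w, hw⟩
        rw [show w = d • v from (congrArg Subtype.val hd').symm, polar_smul_right,
          UnitaryOrthogonal.polar_self_eq, h0, mul_zero, smul_zero]
      have hcc : c * c = 1 := mul_right_cancel₀ hqv (by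
        rw [one_mul, ← UnitaryOrthogonal.form_smul, ← hc', map_form'])
      rcases mul_self_eq_one_iff.1 hcc with rfl | rfl
      · rw [hc', one_smul]
      · exfalso
        have hpow : ∀ i : ℕ, (g ^ i).1 v = (-1 : F) ^ i • v := by
          intro i
          induction i with
          | zero => simp
          | succ i ih =>
            rw [pow_succ', UnitaryOrthogonal.coe_mul_apply, ih, map_smul, hc', smul_smul, pow_succ]
        have hxv := mem_fixS.1 hv
        rw [hxg, hpow, (hp.odd_of_ne_two hp2).pow.neg_one_pow, neg_one_smul] at hxv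
        have h3 : (2 : F) • v = 0 := by rw [two_smul]; nth_rewrite 1 [← hxv]; exact neg_add_cancel v
        exact hv0 ((smul_eq_zero.1 h3).resolve_left h2)
    obtain ⟨hW, hW8, hWs⟩ := hyper hF1 h1 hε1
    obtain ⟨h', hh', ho', hp'⟩ := down hF1 hW hW8 hg hgfix
    rcases hε.unit with e | e <;> rcases hε1.unit with e1 | e1 <;> subst e e1
    case inl.inr | inr.inl =>
      exact ⟨_, orderOf h', hW, hW8, by simpa using hWs, ⟨h', hh', Or.inl rfl⟩, by rw [ho']⟩
    all_goals
      have hWp : SigOn Q (perp Q F1) 1 := by simpa using hWs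
      have hnofix : ∀ z : perp Q F1, h'.1 z = z → z = 0 := fun z hz => by
        have h := hp' 1 z
        rw [pow_one, pow_one] at h
        have hgz : g.1 (z : V) = z := h.symm.trans (congrArg Subtype.val hz)
        have hzF : (z : V) ∈ F1 := mem_fixS.2 (by rw [hxg]; exact pow_fix hgz _)
        exact Subtype.ext (Submodule.disjoint_def.1 hF1.disjoint _ hzF z.2)
      haveI : Finite (perp Q F1) := inferInstance
      have hb := bound (p := p) h2 hW hW8 hWp h' (fun c _ => sgnQ_of_mem hh' c) hnofix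
      obtain ⟨W', -, hW'd, hW', hW's⟩ := exists_sub (m := 8) (ε := (-1 : ℤ)) (ndOn_top hQ) (sigOn_top hε)
        ⟨by rw [finrank_top, hd]; norm_num, Or.inr rfl, fun h => by omega,
          fun h => by simp [finrank_top, hd] at h, fun _ => by decide⟩
      obtain ⟨b, hbs, hbd⟩ := realise (p := p) h2 hW' hW'd hW's hb
      exact ⟨W', b, hW', hW'd, hW's, hbs, ho' ▸ hbd⟩
  · -- a line inside the fixed space of the right class
    have hF12 : 2 ≤ Module.finrank F F1 := by rw [Nat.odd_iff] at hF1odd; omega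
    obtain ⟨M, hMF, hMd, hM, hMs⟩ := exists_sub (m := 1) (ε := -ε) hF1 hε1
      ⟨by omega, by rcases hε.unit with rfl | rfl <;> simp, fun h => by omega, fun h => absurd h.symm h1,
        fun h => absurd h h2⟩
    obtain ⟨hW, hW8, hWs⟩ := hyper hM hMd hMs
    rw [hneg] at hWs
    have hxy : Commute x y := by rw [hxg, hyg]; exact (Commute.refl g).pow_pow _ _
    have hyinv : ∀ z ∈ F1, y.1 z ∈ F1 := fun z hz => by
      rw [mem_fixS] at hz ⊢
      have := congrArg (fun t : orth Q => t.1 z) hxy.eq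
      simp only [UnitaryOrthogonal.coe_mul_apply, hz] at this
      exact this
    have hyinv' : ∀ z ∈ perp Q F1, y.1 z ∈ perp Q F1 := perp_invariant hyinv
    obtain ⟨hP1, -, -⟩ := (ndOn_top hQ).inf_perp hF1 le_top
    rw [top_inf_eq] at hP1
    set yW := glue hP1 (restr y _ hyinv') with hyW
    have hyWfix : ∀ z ∈ F1, yW.1 z = z := fun z hz => glue_of_perp hP1 _ (perp_le_of_le le_rfl hz)
    have hyWpow : ∀ (i : ℕ) (z : V), z ∈ perp Q F1 → (yW ^ i).1 z = (y ^ i).1 z := fun i z hz => by
      rw [hyW, ← map_pow, glue_of_mem hP1 _ hz]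
      exact restr_pow y _ hyinv' i ⟨z, hz⟩
    have heq : ∀ t : orth Q, ∀ _ : ∀ z ∈ F1, t.1 z = z, ∀ _ : ∀ z ∈ perp Q F1, t.1 z = z, t = 1 := by
      intro t ht1 ht2
      refine orth_ext fun z => ?_
      obtain ⟨a, ha, r, hr, rfl⟩ := Submodule.mem_sup.1 (hF1.isCompl.sup_eq_top ▸ Submodule.mem_top : z ∈ F1 ⊔ perp Q F1)
      rw [map_add, ht1 a ha, ht2 r hr]
      rfl
    have hyWP : yW ^ p ^ k = 1 := heq _ (fun z hz => pow_fix (hyWfix z hz) _) fun z hz => by
      rw [hyWpow _ z hz, ← hyo, pow_orderOf_eq_one]; rfl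
    obtain ⟨a, hak, hao⟩ := (Nat.dvd_prime_pow hp).1 (orderOf_dvd_of_pow_eq_one hyWP)
    have hodd : Odd (orderOf yW) := hao ▸ (hp.odd_of_ne_two hp2).pow
    have hyWc : yW ∈ commutator (orth Q) := mem_commutator_of_odd h2 hQ (by omega) hodd
    have hxfix : ∀ z ∈ M, x.1 z = z := fun z hz => mem_fixS.1 (hMF hz)
    rcases eq_or_lt_of_le hak with rfl | hlt
    · have hc : Commute x yW := by
        refine orth_ext fun z => ?_
        obtain ⟨a', ha', r, hr, rfl⟩ := Submodule.mem_sup.1 (hF1.isCompl.sup_eq_top ▸ Submodule.mem_top : z ∈ F1 ⊔ perp Q F1)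
        have hxr : x.1 r ∈ perp Q F1 := map_mem_perp (fun u hu => mem_fixS.1 hu) hr
        have e1 : ∀ s, s ∈ perp Q F1 → yW.1 s = y.1 s := fun s hs => by
          have := hyWpow 1 s hs
          rwa [pow_one, pow_one] at this
        have := congrArg (fun t : orth Q => t.1 r) hxy.eq
        simp only [UnitaryOrthogonal.coe_mul_apply] at this
        simp only [UnitaryOrthogonal.coe_mul_apply, map_add, hyWfix a' ha', mem_fixS.1 ha', e1 r hr, e1 _ hxr, this]
      obtain ⟨h', hh', ho', -⟩ := down hM hW hW8 (mul_mem hxc hyWc) (fun z hz => by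
        rw [UnitaryOrthogonal.coe_mul_apply, hyWfix z (hMF hz), hxfix z hz])
      refine ⟨_, orderOf h', hW, hW8, hWs, ⟨h', hh', Or.inl rfl⟩, ?_⟩
      rw [ho', hc.orderOf_mul_eq_mul_orderOf_of_coprime, hxo, hao, hn]
      rw [hxo, hao]
      exact Nat.Coprime.pow_right _ (hp.coprime_iff_not_dvd.2 hm).symm
    · obtain ⟨k', rfl⟩ : ∃ k', k = k' + 1 := ⟨k - 1, by omega⟩
      have hyW' : yW ^ p ^ k' = 1 := orderOf_dvd_iff_pow_eq_one.1 (hao ▸ pow_dvd_pow p (by omega))
      set fy := toEnd (Q.comp F1.subtype) (restr y F1 hyinv) with hfy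
      have hfyp : ∀ i, fy ^ i = 1 → ∀ z ∈ F1, (y ^ i).1 z = z := fun i h z hz => by
        rw [hfy, ← map_pow] at h
        have := congrArg Subtype.val (LinearMap.congr_fun h ⟨z, hz⟩)
        exact (restr_pow y F1 hyinv i ⟨z, hz⟩).symm.trans this
      have hlt' : p ^ k' < Module.finrank F F1 := by
        by_contra hle
        push Not at hle
        have hz : (fy - 1) ^ Module.finrank F F1 = 0 := nilpotent_bound (p := p) (k := k' + 1) (by
          rw [hfy, ← map_pow, restr_pow_eq_one (hyo ▸ pow_orderOf_eq_one y) F1 hyinv, map_one])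
        have hy1 : y ^ p ^ k' = 1 := heq _
          (hfyp _ (by rw [← sub_eq_zero, ← pow_sub_one_eq (p := p)]; exact pow_eq_zero_of_le hle hz))
          fun z hz => by rw [← hyWpow _ z hz, hyW']; rfl
        have := orderOf_dvd_of_pow_eq_one hy1
        rw [hyo, Nat.pow_dvd_pow_iff_le_right hp.one_lt] at this
        omega
      obtain ⟨j, hj⟩ := (hp.odd_of_ne_two hp2).pow (n := k')
      obtain ⟨hE, hEd, -⟩ := hF1.inf_perp hM hMF
      obtain ⟨u, hu1, ⟨w, hwE, hw⟩, hufix, hucomm⟩ := exists_unipotent h2 hE (j := j) (by omega)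
      rw [← hj] at hu1
      rw [show 2 * j = p ^ k' - 1 by omega] at hw
      obtain ⟨ho, hsum⟩ := mul_unipotent (hucomm x fun z hz => mem_fixS.1 hz.1) rfl hu1 hw
        (mem_fixS.1 hwE.1) (hxo ▸ hm)
      have huc : u ∈ commutator (orth Q) := mem_commutator_of_odd h2 hQ (by omega) (by
        rw [orderOf_unipotent rfl hu1 (fun h0 => hw (by rw [h0]; rfl))]
        exact (hp.odd_of_ne_two hp2).pow)
      obtain ⟨h', hh', ho', hp'⟩ := down hM hW hW8 (mul_mem hxc huc) (fun z hz => by
        rw [UnitaryOrthogonal.coe_mul_apply, hufix z (perp_le_of_le inf_le_right hz), hxfix z hz])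
      refine ⟨_, p * orderOf h', hW, hW8, hWs, ⟨h', hh', Or.inr ⟨rfl, ⟨w, hwE.2⟩, ?_⟩⟩, ?_⟩
      · intro h0
        refine hsum ?_
        rw [ho'] at h0
        have h1 := congrArg Subtype.val h0
        rw [LinearMap.sum_apply, Submodule.coe_sum, Finset.sum_congr rfl fun i _ => hp' i _] at h1
        rw [LinearMap.sum_apply]
        exact h1
      · rw [ho', ho, hxo, hn, pow_succ]
        exact ⟨1, by ring⟩

/-- from a hyperplane back to the whole space -/
theorem backward (h2 : (2 : F) ≠ 0) (hQ : PolarND Q) (hd : Module.finrank F V = 9) {W : Submodule F V}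
    (hW : NDOn Q W) (hW8 : Module.finrank F W = 8) {n : ℕ} (hn : SemiOrd p (Q.comp W.subtype) n) :
    ∃ g ∈ commutator (orth Q), n ∣ orderOf g := by
  haveI := orth_finite (Q := Q)
  have hp : p.Prime := Fact.out
  have hp2 : p ≠ 2 := by
    rintro rfl
    exact h2 (by exact_mod_cast CharP.cast_eq_zero F 2)
  obtain ⟨h, hh, hn⟩ := hn
  set H := glue hW h with hH
  have hHc : H ∈ commutator (orth Q) := (glue_mem_iff h2 hQ hW (by omega)).2 hh
  have hHo : orderOf H = orderOf h := orderOf_injective _ (glue_injective hW) _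
  rcases hn with rfl | ⟨rfl, v, hv⟩
  · exact ⟨H, hHc, by rw [hHo]⟩
  obtain ⟨m, k, x, y, hm, hm0, hno, hxo, hyo, hxg, -, hxc, -⟩ := exists_parts (p := p) hHc
  set f := toEnd Q H with hf
  -- a vector of `W` fixed by `x` with a long chain
  have hfv : ∀ i, (f ^ i) (v : V) = ((toEnd _ h ^ i) v : W) := fun i => by
    rw [hf, ← map_pow, ← map_pow, ← map_pow]
    exact glue_of_mem hW (h ^ i) v.2

  have hgeom : ∑ i ∈ Finset.range (orderOf h), f ^ i =
      (f - 1) ^ (p ^ k - 1) * ∑ r ∈ Finset.range m, toEnd Q x ^ r := by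
    have hsplit : ∀ r, ∑ i ∈ Finset.range (r * p ^ k), f ^ i =
        (∑ i ∈ Finset.range (p ^ k), f ^ i) * ∑ s ∈ Finset.range r, toEnd Q x ^ s := by
      intro r
      induction r with
      | zero => simp
      | succ r ih =>
        rw [add_mul, one_mul, Finset.sum_range_add, ih, Finset.sum_range_succ, mul_add]
        congr 1
        rw [Finset.sum_mul]
        refine Finset.sum_congr rfl fun i _ => ?_
        rw [hxg, map_pow, ← hf, ← pow_mul, ← pow_add, mul_comm r, add_comm]
    have hg := congrArg (Polynomial.aeval f) (geom_sum_eq (F := F) (p ^ k) k rfl)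
    simp only [map_sum, map_pow, map_sub, Polynomial.aeval_X, map_one] at hg
    rw [← hHo, hno, hsplit, hg]
  set z := (∑ r ∈ Finset.range m, toEnd Q x ^ r) (v : V) with hz
  have hz0 : ((f - 1) ^ (p ^ k - 1)) z ≠ 0 := by
    rw [hz, ← Module.End.mul_apply, ← hgeom, LinearMap.sum_apply, Finset.sum_congr rfl fun i _ => hfv i]
    intro h0
    refine hv (Subtype.ext ?_)
    rw [LinearMap.sum_apply, Submodule.coe_sum]
    exact h0
  have hxm : x ^ m = 1 := hxo ▸ pow_orderOf_eq_one x
  have hzfix : z ∈ fixS x := by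
    rw [mem_fixS, hz]
    show (toEnd Q x) _ = _
    rw [← Module.End.mul_apply]
    congr 1
    have h' := mul_geom_sum (toEnd Q x) m
    rw [← map_pow, hxm, map_one, sub_self, sub_mul, one_mul, sub_eq_zero] at h'
    exact h'
  have hHW : ∀ s ∈ W, H.1 s ∈ W := fun s hs => by rw [hH, glue_of_mem hW h hs]; exact (h.1 ⟨s, hs⟩).2
  have hzW : z ∈ W := by
    rw [hz, LinearMap.sum_apply]
    refine W.sum_mem fun r _ => ?_
    rw [hxg, map_pow, ← pow_mul, ← hf, hfv]
    exact Submodule.coe_mem _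
  set E := W ⊓ fixS x with hE
  have hHE : ∀ s ∈ E, H.1 s ∈ E := fun s hs => ⟨hHW s hs.1, by
    have h2' := mem_fixS.1 hs.2
    rw [SetLike.mem_coe, mem_fixS]
    have hc : x * H = H * x := by rw [hxg]; exact ((Commute.refl H).pow_left _).eq
    have := congrArg (fun t : orth Q => t.1 s) hc
    simp only [UnitaryOrthogonal.coe_mul_apply, h2'] at this
    exact this⟩
  have hEP : p ^ k - 1 < Module.finrank F E := by
    by_contra hle
    push Not at hle
    set fe := toEnd (Q.comp E.subtype) (restr H E hHE) with hfe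
    have hz1 : (fe - 1) ^ Module.finrank F E = 0 := nilpotent_bound (p := p) (k := k) (by
      rw [hfe, ← map_pow]
      refine LinearMap.ext fun s => Subtype.ext ((restr_pow H E hHE _ s).trans ?_)
      rw [← hxg]
      exact mem_fixS.1 s.2.2)
    have hz2 : (fe - 1) ^ (p ^ k - 1) = 0 := pow_eq_zero_of_le hle hz1
    refine hz0 ?_
    have key : ∀ (i : ℕ) (s : E), (((fe - 1) ^ i) s : V) = ((f - 1) ^ i) (s : V) := by
      intro i
      induction i with
      | zero => intro s; rfl
      | succ i ih =>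
        intro s
        rw [pow_succ (fe - 1), pow_succ (f - 1), Module.End.mul_apply, Module.End.mul_apply, ih]
        rfl
    rw [← key _ ⟨z, hzW, hzfix⟩, hz2]
    rfl
  obtain ⟨hF1, hF1odd⟩ := fix_facts (p := p) hQ (by rw [hd]; decide) hm hxm hxc
  have hlt : Module.finrank F E < Module.finrank F (fixS x) := by
    refine Submodule.finrank_lt_finrank_of_lt (lt_of_le_of_ne inf_le_right fun he => ?_)
    obtain ⟨hP, hPd, -⟩ := (ndOn_top hQ).inf_perp hW le_top
    rw [finrank_top, hd, hW8] at hPd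
    haveI : Nontrivial ↥((⊤ : Submodule F V) ⊓ perp Q W) := Module.nontrivial_of_finrank_pos (R := F) (by omega)
    obtain ⟨⟨s, hs⟩, hs0⟩ := exists_ne (0 : ↥((⊤ : Submodule F V) ⊓ perp Q W))
    have hsx : s ∈ fixS x := by
      rw [mem_fixS, hxg]
      exact pow_fix (by rw [hH]; exact glue_of_perp hW h hs.2) _
    rw [← he] at hsx
    exact hs0 (Subtype.ext (Submodule.disjoint_def.1 hW.disjoint s hsx.1 hs.2))
  obtain ⟨j, hj⟩ := (hp.odd_of_ne_two hp2).pow (n := k)
  rw [Nat.odd_iff] at hF1odd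
  obtain ⟨u, hu1, ⟨w, -, hw⟩, -, hucomm⟩ := exists_unipotent h2 hF1 (j := j + 1) (by omega)
  have hupow : orderOf u ∣ p ^ (2 * (j + 1) + 1) := orderOf_dvd_of_pow_eq_one (orth_eq_one_of_toEnd (by
    rw [map_pow, ← sub_eq_zero, ← pow_sub_one_eq (p := p)]
    exact pow_eq_zero_of_le (Nat.lt_pow_self hp.one_lt).le hu1))
  obtain ⟨t, -, ht⟩ := (Nat.dvd_prime_pow hp).1 hupow
  have hkt : k < t := by
    by_contra hle
    push Not at hle
    have h1 : u ^ p ^ k = 1 := orderOf_dvd_iff_pow_eq_one.1 (ht ▸ pow_dvd_pow p hle)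
    have h2' : (toEnd Q u - 1) ^ p ^ k = 0 := by rw [pow_sub_one_eq (p := p), ← map_pow, h1, map_one, sub_self]
    exact hw (by rw [pow_eq_zero_of_le (by omega) h2']; rfl)
  have huc : u ∈ commutator (orth Q) :=
    mem_commutator_of_odd h2 hQ (by omega) (ht ▸ (hp.odd_of_ne_two hp2).pow)
  refine ⟨x * u, mul_mem hxc huc, ?_⟩
  rw [(hucomm x fun s hs => mem_fixS.1 hs).orderOf_mul_eq_mul_orderOf_of_coprime, hxo, ht, ← hHo, hno]
  · rw [← mul_assoc, mul_comm p m, mul_assoc, ← pow_succ']
    exact mul_dvd_mul_left m (pow_dvd_pow p hkt)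
  · rw [hxo, ht]
    exact Nat.Coprime.pow_right _ (hp.coprime_iff_not_dvd.2 hm).symm

end Cfsg.Agent.O9Spec80
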