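import Cfsg.Agent.O9Spec80.Spin

/-!
The eigenvalues of an isometry, and the order bound they give.
-/

set_option autoImplicit false
set_option linter.unusedSectionVars false

namespace Cfsg.Agent.O9Spec80

open QuadraticMap Polynomial Matrix
open Cfsg.Agent.UnitaryOrthogonal (orth orth_ext PolarND)
open Cfsg.Agent.OrthFix

universe u v

variable {F : Type u} [Field F] {V : Type v} [AddCommGroup V] [Module F V] [FiniteDimensional F V]
variable {Q : QuadraticForm F V}

/-- eigenvalues with multiplicity in an algebraic closure -/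
noncomputable def eig (g : orth Q) : Multiset (AlgebraicClosure F) :=
  ((toEnd Q g).charpoly.map (algebraMap F (AlgebraicClosure F))).roots

theorem card_eig (g : orth Q) : Multiset.card (eig g) = Module.finrank F V := by
  rw [eig, IsAlgClosed.card_roots_eq_natDegree, natDegree_map, LinearMap.charpoly_natDegree]

theorem toEnd_pow (g : orth Q) (n : ℕ) : toEnd Q (g ^ n) = toEnd Q g ^ n := map_pow _ _ _

theorem charpoly_inv_eq (hQ : PolarND Q) (g : orth Q) {n : ℕ} (b : Module.Basis (Fin n) F V) :
    (LinearMap.toMatrix b b (toEnd Q g⁻¹)).charpoly = (LinearMap.toMatrix b b (toEnd Q g)).charpoly := by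
  set M := LinearMap.toMatrix b b (toEnd Q g)
  set Mi := LinearMap.toMatrix b b (toEnd Q g⁻¹)
  set J := LinearMap.BilinForm.toMatrix b (polarBilin Q) with hJ
  have h1 : Mᵀ * J * M = J := by
    have h := LinearMap.BilinForm.toMatrix_comp b b (polarBilin Q) (toEnd Q g) (toEnd Q g)
    rw [← h, hJ]
    congr 1
    exact LinearMap.ext fun x => LinearMap.ext fun y => UnitaryOrthogonal.map_polar g x y
  have h2 : M * Mi = 1 := by
    rw [← LinearMap.toMatrix_mul, ← map_mul, mul_inv_cancel, map_one, LinearMap.toMatrix_one]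
  have hdet : IsUnit J.det := isUnit_iff_ne_zero.2
    ((LinearMap.BilinForm.nondegenerate_iff_det_ne_zero b).1
      ⟨hQ, fun u hu => hQ u fun x => (polar_comm Q u x).trans (hu x)⟩)
  let U : (Matrix (Fin n) (Fin n) F)ˣ := ((Matrix.isUnit_iff_isUnit_det J).2 hdet).unit
  have hU : (U : Matrix (Fin n) (Fin n) F) = J := IsUnit.unit_spec _
  have h3 : J * M = Miᵀ * J := by
    calc J * M = (M * Mi)ᵀ * (J * M) := by rw [h2, Matrix.transpose_one, one_mul]
      _ = Miᵀ * J := by rw [Matrix.transpose_mul, mul_assoc, ← mul_assoc Mᵀ, h1]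
  calc Mi.charpoly = Miᵀ.charpoly := (Matrix.charpoly_transpose _).symm
    _ = (U.val * M * U.val⁻¹).charpoly := by
        congr 1
        rw [hU, h3, mul_assoc, Matrix.mul_nonsing_inv _ hdet, mul_one]
    _ = M.charpoly := Matrix.charpoly_units_conj U M

theorem exists_reverse_eq (hQ : PolarND Q) (g : orth Q) :
    ∃ c : F, c ≠ 0 ∧ (toEnd Q g).charpoly.reverse = C c * (toEnd Q g).charpoly := by
  let b := Module.finBasis F V
  set M := LinearMap.toMatrix b b (toEnd Q g) with hM
  set Mi := LinearMap.toMatrix b b (toEnd Q g⁻¹)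
  have h2 : M * Mi = 1 := by
    rw [hM, ← LinearMap.toMatrix_mul, ← map_mul, mul_inv_cancel, map_one, LinearMap.toMatrix_one]
  have hchar : (toEnd Q g).charpoly = M.charpoly := (LinearMap.charpoly_toMatrix _ b).symm
  refine ⟨((-1) ^ Module.finrank F V : F) * M.det, ?_, ?_⟩
  · refine mul_ne_zero (pow_ne_zero _ (by simp)) fun h0 => ?_
    have := congrArg Matrix.det h2
    rw [Matrix.det_mul, h0, zero_mul, Matrix.det_one] at this
    exact zero_ne_one this
  have key : (1 - (X : F[X]) • M.map C) = -(M.map C) * Matrix.charmatrix Mi := by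
    have e : M.map C * Mi.map C = (1 : Matrix _ _ F[X]) := by
      rw [← Matrix.map_mul, h2, Matrix.map_one _ (map_zero _) (map_one _)]
    rw [Matrix.charmatrix, RingHom.mapMatrix_apply, neg_mul, mul_sub, neg_sub]
    rw [e, ← (Matrix.scalar_commute _ (fun r => Commute.all _ r) (M.map C)).eq, Matrix.scalar_apply,
      ← Matrix.smul_eq_diagonal_mul]
  rw [hchar, Matrix.reverse_charpoly, Matrix.charpolyRev, key, Matrix.det_mul, Matrix.det_neg,
    Fintype.card_fin, map_mul, map_pow, map_neg, map_one]
  have hd : (M.map C).det = C M.det := (RingHom.map_det (C : F →+* F[X]) M).symm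
  rw [hd]
  exact congrArg _ (charpoly_inv_eq hQ g b)

theorem roots_reverse_prod {K : Type*} [Field K] :
    ∀ s : Multiset K, (0 : K) ∉ s → ((s.map fun a => X - C a).prod).reverse.roots = s.map (·⁻¹) := by
  intro s
  induction s using Multiset.induction with
  | empty => intro _; simp [reverse, Polynomial.roots_one]
  | cons a s ih =>
    intro h0
    rw [Multiset.mem_cons, not_or] at h0
    have ha : a ≠ 0 := Ne.symm h0.1
    have hrev : (X - C a).reverse = C (-a) * (X - C a⁻¹) := by
      rw [mul_sub, ← C_mul, neg_mul, mul_inv_cancel₀ ha, map_neg, map_neg, C_1, neg_mul, sub_neg_eq_add]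
      rw [reverse, natDegree_X_sub_C, reflect_sub, reflect_C, reflect_one_X]
      ring
    rw [Multiset.map_cons, Multiset.prod_cons, reverse_mul_of_domain, hrev, Multiset.map_cons]
    have hp : (s.map fun a => X - C a).prod.reverse ≠ 0 := by
      rw [Ne, reverse_eq_zero]
      exact (monic_multiset_prod_of_monic _ _ fun b _ => monic_X_sub_C b).ne_zero
    rw [roots_mul (mul_ne_zero (mul_ne_zero (C_ne_zero.2 (neg_ne_zero.2 ha)) (X_sub_C_ne_zero _)) hp),
      roots_C_mul _ (neg_ne_zero.2 ha), roots_X_sub_C, ih h0.2]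
    rfl

theorem zero_not_mem_eig (g : orth Q) : (0 : AlgebraicClosure F) ∉ eig g := by
  intro h
  rw [eig, mem_roots', IsRoot, eval_map, eval₂_at_zero, map_eq_zero] at h
  have h2 := h.2
  have hu : IsUnit (toEnd Q g).det := by
    refine LinearMap.isUnit_det _ ((isUnit_iff_exists).2 ⟨toEnd Q g⁻¹, ?_, ?_⟩) <;> rw [← map_mul] <;> simp
  rw [LinearMap.det_eq_sign_charpoly_coeff, h2, mul_zero] at hu
  exact not_isUnit_zero hu

theorem eig_map_inv (hQ : PolarND Q) (g : orth Q) : (eig g).map (·⁻¹) = eig g := by
  obtain ⟨c, hc, hrev⟩ := exists_reverse_eq hQ g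
  set φ := algebraMap F (AlgebraicClosure F)
  set P := (toEnd Q g).charpoly.map φ with hP
  have hmon : P.Monic := (LinearMap.charpoly_monic _).map φ
  have hprod : ((eig g).map fun a => X - C a).prod = P :=
    ((IsAlgClosed.splits P).eq_prod_roots_of_monic hmon).symm
  have hr : P.reverse = C (φ c) * P := by
    have e : P.reverse = (toEnd Q g).charpoly.reverse.map φ := by
      refine Polynomial.ext fun i => ?_
      rw [coeff_map, coeff_reverse, coeff_reverse, hP, natDegree_map, coeff_map]
    rw [e, hrev, Polynomial.map_mul, map_C]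
  have h := roots_reverse_prod (eig g) (zero_not_mem_eig g)
  rw [hprod, hr, roots_C_mul _ ((map_ne_zero φ).2 hc)] at h
  exact h.symm

theorem count_inv (hQ : PolarND Q) (g : orth Q) [DecidableEq (AlgebraicClosure F)] (a : AlgebraicClosure F) :
    (eig g).count a⁻¹ = (eig g).count a := by
  conv_lhs => rw [← eig_map_inv hQ g]
  exact Multiset.count_map_eq_count' _ _ inv_injective a

variable [Fintype F]

theorem frob_exists : ∃ φ : AlgebraicClosure F →+* AlgebraicClosure F, ∀ x, φ x = x ^ Fintype.card F := by
  obtain ⟨p, hchar⟩ := CharP.exists F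
  haveI := hchar
  haveI : Fact p.Prime := ⟨CharP.char_is_prime F p⟩
  obtain ⟨a, -, hq⟩ := FiniteField.card F p
  haveI : CharP (AlgebraicClosure F) p := charP_of_injective_algebraMap (algebraMap F (AlgebraicClosure F)).injective p
  haveI : ExpChar (AlgebraicClosure F) p := ExpChar.prime Fact.out
  exact ⟨iterateFrobenius (AlgebraicClosure F) p a, fun x => by rw [iterateFrobenius_def, hq]⟩

theorem pow_card_injective : Function.Injective fun x : AlgebraicClosure F => x ^ Fintype.card F := by
  obtain ⟨φ, hφ⟩ := frob_exists (F := F)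
  intro x y h
  exact φ.injective (by rw [hφ, hφ]; exact h)

theorem count_pow (g : orth Q) [DecidableEq (AlgebraicClosure F)] (a : AlgebraicClosure F) :
    (eig g).count (a ^ Fintype.card F) = (eig g).count a := by
  obtain ⟨φ, hφ⟩ := frob_exists (F := F)
  have hfix : ((toEnd Q g).charpoly.map (algebraMap F (AlgebraicClosure F))).map φ =
      (toEnd Q g).charpoly.map (algebraMap F (AlgebraicClosure F)) := by
    rw [Polynomial.map_map]
    congr 1
    refine RingHom.ext fun x => ?_
    rw [RingHom.comp_apply, hφ, ← map_pow, FiniteField.pow_card]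
  have hmap : (eig g).map φ = eig g := by
    have := roots_map_of_injective_of_card_eq_natDegree φ.injective
      (IsAlgClosed.card_roots_eq_natDegree (p := (toEnd Q g).charpoly.map (algebraMap F (AlgebraicClosure F))))
    rw [hfix] at this
    exact this
  conv_lhs => rw [← hmap, ← hφ]
  exact Multiset.count_map_eq_count' _ _ φ.injective a

/-! ### from eigenvalues to powers -/

omit [Fintype F] in
theorem charpoly_dvd (g : orth Q) [DecidableEq (AlgebraicClosure F)] (f : F[X])
    (h : ∀ a ∈ eig g, (X - C a) ^ (eig g).count a ∣ f.map (algebraMap F (AlgebraicClosure F))) :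
    (toEnd Q g).charpoly ∣ f := by
  rw [← Polynomial.map_dvd_map' (algebraMap F (AlgebraicClosure F)),
    (IsAlgClosed.splits _).eq_prod_roots_of_monic ((LinearMap.charpoly_monic _).map _),
    Finset.prod_multiset_map_count]
  refine Finset.prod_dvd_of_coprime (fun a _ b _ hab => ?_) fun a ha => h a (Multiset.mem_toFinset.1 ha)
  exact (Polynomial.pairwise_coprime_X_sub_C Function.injective_id hab).pow

omit [Fintype F] in
theorem dvd_of_pow_eq_one {N P c : ℕ} (a : AlgebraicClosure F) (ha : a ^ N = 1) (hc : c ≤ P) :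
    (X - C a) ^ c ∣ (((X : F[X]) ^ N - 1) ^ P).map (algebraMap F (AlgebraicClosure F)) := by
  rw [Polynomial.map_pow, Polynomial.map_sub, Polynomial.map_pow, map_X, Polynomial.map_one]
  exact (pow_dvd_pow_of_dvd (dvd_iff_isRoot.2 (by simp [IsRoot, ha])) c).trans (pow_dvd_pow _ hc)

omit [Fintype F] in
theorem aeval_charpoly_eq_zero {f : F[X]} (g : orth Q) (h : (toEnd Q g).charpoly ∣ f) :
    aeval (toEnd Q g) f = 0 := by
  obtain ⟨r, rfl⟩ := h
  rw [map_mul, LinearMap.aeval_self_charpoly, zero_mul]

omit [Fintype F] in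
/-- when all multiplicities are at most `P` -/
theorem sub_one_pow_eq_zero (g : orth Q) [DecidableEq (AlgebraicClosure F)] {N P : ℕ}
    (hroot : ∀ a ∈ eig g, a ^ N = 1) (hc : ∀ a, (eig g).count a ≤ P) :
    (toEnd Q g ^ N - 1) ^ P = 0 := by
  have h := aeval_charpoly_eq_zero g (charpoly_dvd g (((X : F[X]) ^ N - 1) ^ P)
    fun a ha => dvd_of_pow_eq_one a (hroot a ha) (hc a))
  simpa using h

omit [Fintype F] in
theorem linearIndependent_chain {f : Module.End F V} {y : V} {P : ℕ} (h1 : (f ^ (P + 1)) y = 0)
    (h2 : (f ^ P) y ≠ 0) : LinearIndependent F fun i : Fin (P + 1) => (f ^ i.val) y := by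
  rw [Fintype.linearIndependent_iff]
  intro c hc
  suffices H : ∀ m, ∀ i : Fin (P + 1), i.val = m → c i = 0 from fun i => H _ i rfl
  intro m
  induction m using Nat.strong_induction_on with
  | _ m ih =>
    intro i hi
    have h := congrArg (f ^ (P - m)) hc
    rw [map_sum, map_zero, Finset.sum_eq_single i] at h
    · rw [map_smul, ← Module.End.mul_apply, ← pow_add, hi, Nat.sub_add_cancel (by omega)] at h
      exact (smul_eq_zero.1 h).resolve_right h2
    · intro j _ hj
      have hne : j.val ≠ m := fun e => hj (Fin.ext (e.trans hi.symm))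
      rcases lt_or_gt_of_ne hne with hlt | hgt
      · rw [ih j.val hlt j rfl, zero_smul, map_zero]
      · rw [map_smul, ← Module.End.mul_apply, ← pow_add,
          show P - m + j.val = (j.val - m - 1) + (P + 1) by omega, pow_add, Module.End.mul_apply, h1, map_zero, smul_zero]
    · simp

omit [Fintype F] in
/-- an eigenvalue `-1` of even multiplicity `P + 1` does not reach a single block -/
theorem sub_one_pow_eq_zero' (h2 : (2 : F) ≠ 0) (hQ : PolarND Q) (g : orth Q) [DecidableEq (AlgebraicClosure F)]
    {N P : ℕ} (hP : Odd P) (hroot : ∀ a ∈ eig g, a ^ N = 1)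
    (hc : ∀ a, a ≠ -1 → (eig g).count a ≤ P) (he : (eig g).count (-1) = P + 1) :
    (toEnd Q g ^ N - 1) ^ P = 0 := by
  have hN1 : (-1 : F) ^ N = 1 := by
    have hm : (-1 : AlgebraicClosure F) ∈ eig g := Multiset.count_pos.1 (by omega)
    exact (algebraMap F (AlgebraicClosure F)).injective (by
      rw [map_pow, map_neg, map_one]; exact hroot _ hm)
  obtain ⟨ψ, hψ⟩ : (X + C (1 : F)) ∣ (X : F[X]) ^ N - 1 := by
    rw [← sub_neg_eq_add X, ← map_neg]
    exact dvd_iff_isRoot.2 (by simp [IsRoot, hN1])
  set f := toEnd Q g with hf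
  set n := f + 1 with hn
  set S := f ^ N - 1 with hS
  set T := S ^ P with hT
  set Ψ := aeval f (ψ ^ P) with hΨ
  have hTn : T = n ^ P * Ψ := by
    have h := congrArg (aeval f) (congrArg (· ^ P) hψ)
    simp only [mul_pow, map_mul, map_pow, map_sub, map_one, aeval_X, map_add] at h
    rw [hT, hS, h, hn, hΨ, map_pow]
  have hnT : n * T = 0 := by
    have h := aeval_charpoly_eq_zero g (charpoly_dvd g ((X + C 1) * ((X : F[X]) ^ N - 1) ^ P) fun a ha => ?_)
    · simpa [hn, hT, hS, hf] using h
    · rw [Polynomial.map_mul]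
      by_cases hm : a = -1
      · subst hm
        rw [he, pow_succ']
        refine mul_dvd_mul ?_ (dvd_of_pow_eq_one _ (hroot _ ha) le_rfl)
        simp
      · exact (dvd_of_pow_eq_one a (hroot a ha) (hc a hm)).trans (dvd_mul_left _ _)
  -- the generalised eigenspace
  set E := f.maxGenEigenspace (-1) with hE
  have hEd : Module.finrank F E = P + 1 := by
    rw [hE, LinearMap.finrank_maxGenEigenspace_eq,
      eq_rootMultiplicity_map (algebraMap F (AlgebraicClosure F)).injective, map_neg, map_one, ← count_roots]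
    exact he
  have hsub : f - (-1 : F) • 1 = n := by rw [hn, neg_smul, one_smul, sub_neg_eq_add]
  have hkill : ∀ x, (n ^ (P + 1)) (Ψ x) = 0 := fun x => by
    rw [pow_succ', ← Module.End.mul_apply, mul_assoc, ← hTn, hnT, LinearMap.zero_apply]
  have hmem : ∀ x, Ψ x ∈ E := fun x => by
    rw [hE, Module.End.mem_maxGenEigenspace]
    exact ⟨P + 1, by rw [hsub]; exact hkill x⟩
  by_contra hT0
  obtain ⟨x0, hx0⟩ : ∃ x, T x ≠ 0 := by
    by_contra hh
    push Not at hh
    exact hT0 (LinearMap.ext hh)
  set y0 := Ψ x0 with hy0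
  set b := T x0 with hb
  have hb' : b = (n ^ P) y0 := by rw [hb, hTn]; rfl
  have hli := linearIndependent_chain (f := n) (y := y0) (P := P) (hkill x0) (hb' ▸ hx0)
  have hspan : Submodule.span F (Set.range fun i : Fin (P + 1) => (n ^ i.val) y0) = E := by
    refine Submodule.eq_of_le_of_finrank_le ?_ ?_
    · rw [Submodule.span_le]
      rintro _ ⟨i, rfl⟩
      exact Module.End.mapsTo_maxGenEigenspace_of_comm (((Commute.refl f).add_right (Commute.one_right f)).pow_right i.val) (-1) (hmem x0)
    · rw [finrank_span_eq_card hli, hEd, Fintype.card_fin]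
  have hline : ∀ x, ∃ c : F, T x = c • b := by
    intro x
    have hy : Ψ x ∈ Submodule.span F (Set.range fun i : Fin (P + 1) => (n ^ i.val) y0) := by rw [hspan]; exact hmem x
    obtain ⟨c, hc⟩ := (Submodule.mem_span_range_iff_exists_fun F).1 hy
    refine ⟨c 0, ?_⟩
    rw [hTn, Module.End.mul_apply, ← hc, map_sum, Finset.sum_eq_single 0]
    · rw [map_smul, hb']
      simp
    · intro j _ hj
      have hj' : 1 ≤ j.val := Nat.one_le_iff_ne_zero.2 fun e => hj (Fin.ext e)
      rw [map_smul, ← Module.End.mul_apply, ← pow_add, show P + j.val = (j.val - 1) + (P + 1) by omega,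
        pow_add, Module.End.mul_apply, hkill x0, map_zero, smul_zero]
    · simp
  -- skew symmetry
  set h := toEnd Q (g ^ N)⁻¹ with hh
  have hfh : toEnd Q (g ^ N) = S + 1 := by rw [toEnd_pow, hS, hf]; abel
  have hhl : h * (S + 1) = 1 := by rw [hh, ← hfh, ← map_mul, inv_mul_cancel, map_one]
  have hcomm : Commute S h := by
    have : Commute (toEnd Q (g ^ N)) h := ((Commute.refl (g ^ N)).inv_right).map (toEnd Q)
    rw [hfh] at this
    simpa using this.sub_left (Commute.one_left h)
  have hstep : ∀ x y, polar Q (S x) y = - polar Q x (S (h y)) := by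
    intro x y
    have e1 : polar Q ((S + 1) x) ((S + 1) (h y)) = polar Q x (h y) := by
      rw [← hfh]; exact UnitaryOrthogonal.map_polar (g ^ N) x (h y)
    have e2 : (S + 1) (h y) = y := by
      rw [← Module.End.mul_apply, (hcomm.add_left (Commute.one_left h)).eq, hhl]; rfl
    rw [e2, LinearMap.add_apply, Module.End.one_apply, polar_add_left] at e1
    have e3 : polar Q x (S (h y)) + polar Q x (h y) = polar Q x y := by
      rw [← polar_add_right, show S (h y) + h y = (S + 1) (h y) from rfl, e2]
    linear_combination e1 + e3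
  have hskew : ∀ k x y, polar Q ((S ^ k) x) y = (-1) ^ k * polar Q x ((S ^ k) ((h ^ k) y)) := by
    intro k
    induction k with
    | zero => intro x y; simp
    | succ k ih =>
      intro x y
      have e : S (h ((S ^ k) ((h ^ k) y))) = (S ^ (k + 1)) ((h ^ (k + 1)) y) := by
        simp only [← Module.End.mul_apply]
        congr 1
        rw [pow_succ' S k, pow_succ' h k, ← mul_assoc h (S ^ k), ← (hcomm.pow_left k).eq]
        simp only [mul_assoc]
      conv_lhs => rw [pow_succ S k, Module.End.mul_apply]
      rw [ih, hstep, e, pow_succ (-1 : F) k]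
      ring
  have hfT : ∀ x, (h ^ P) (T x) = T x := by
    intro x
    have h1 : f (T x) = -T x := by
      have h := LinearMap.congr_fun hnT x
      rw [Module.End.mul_apply, hn, LinearMap.add_apply, Module.End.one_apply] at h
      exact eq_neg_of_add_eq_zero_left h
    have h3 : ∀ k, (f ^ k) (T x) = (-1 : F) ^ k • T x := by
      intro k
      induction k with
      | zero => simp
      | succ k ih => rw [pow_succ', Module.End.mul_apply, ih, map_smul, h1, pow_succ, mul_smul, neg_one_smul]
    have h4 : h (T x) = T x := by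
      conv_lhs => rw [← one_smul F (T x), ← hN1, ← h3, hf, ← toEnd_pow]
      rw [← Module.End.mul_apply, hh, ← map_mul, inv_mul_cancel, map_one]
      rfl
    have h5 : ∀ k, (h ^ k) (T x) = T x := by
      intro k
      induction k with
      | zero => simp
      | succ k ih => rw [pow_succ', Module.End.mul_apply, ih, h4]
    exact h5 P
  have halt : ∀ x, polar Q (T x) x = 0 := by
    intro x
    have h := hskew P x x
    rw [← hT, hP.neg_one_pow, ← Module.End.mul_apply, ((hcomm.pow_left P).pow_right P).eq, Module.End.mul_apply,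
      hfT, polar_comm Q x] at h
    exact (mul_eq_zero.1 (show (2 : F) * polar Q (T x) x = 0 by linear_combination h)).resolve_left h2
  have hne : ∀ x, T x ≠ 0 → polar Q b x = 0 := fun x hx => by
    obtain ⟨c, hc⟩ := hline x
    have := halt x
    rw [hc, polar_smul_left, smul_eq_mul] at this
    exact (mul_eq_zero.1 this).resolve_left fun h0 => hx (by rw [hc, h0, zero_smul])
  refine hx0 (hQ _ fun x => ?_)
  by_cases hx : T x = 0
  · have h1 := hne (x0 + x) (by rw [map_add, hx, add_zero]; exact hx0)
    rw [polar_add_right, hne x0 hx0, zero_add] at h1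
    exact h1
  · exact hne x hx

end Cfsg.Agent.O9Spec80
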