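import Cfsg.Agent.O9Spec80.Spin

/-!
Unipotent isometries with one long chain, by the Cayley transform.
-/

set_option autoImplicit false
set_option linter.unusedSectionVars false

namespace Cfsg.Agent.O9Spec80

open QuadraticMap
open Cfsg.Agent.UnitaryOrthogonal (orth orth_ext PolarND hypSum hypSum_apply sqForm sqForm_apply zeroForm binForm)
open Cfsg.Agent.OrthFix

universe u v

variable {F : Type u} [Field F] [Fintype F] {V : Type v} [AddCommGroup V] [Module F V] [FiniteDimensional F V]
variable {Q : QuadraticForm F V}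

theorem polar_hypSum_sq (j : ℕ) (c : F) (x y : ((Fin j → F) × (Fin j → F)) × F) :
    polar (hypSum j (c • sqForm F)) x y =
      (∑ i, (x.1.1 i * y.1.2 i + y.1.1 i * x.1.2 i)) + 2 * c * (x.2 * y.2) := by
  simp only [polar, hypSum_apply, smul_apply, sqForm_apply, smul_eq_mul, Prod.fst_add, Prod.snd_add,
    Pi.add_apply, add_mul, mul_add, Finset.sum_add_distrib]
  ring

theorem exists_frame (h2 : (2 : F) ≠ 0) {U : Submodule F V} (hU : NDOn Q U) {j : ℕ}
    (hj : 2 * j + 1 ≤ Module.finrank F U) :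
    ∃ (w : ℕ → V) (κ : F), κ ≠ 0 ∧ (∀ i, w i ∈ U) ∧
      ∀ i k, i ≤ 2 * j → k ≤ 2 * j → polar Q (w i) (w k) = if i + k = 2 * j then (-1) ^ i * κ else 0 := by
  obtain ⟨εU, hs⟩ := exists_sig hU
  obtain ⟨M, hMU, hMd, hM, -⟩ := exists_sub (m := 2 * j + 1) (ε := εU) hU hs
    ⟨hj, (hU.valid hs).unit, fun h => by omega, fun _ => rfl, fun h => absurd h h2⟩
  rcases exists_model hM with ⟨k, hk, -⟩ | ⟨k, hk, c, hc, ⟨e⟩⟩ | ⟨k, hk, -⟩
  · omega
  rotate_left
  · omega
  obtain rfl : k = j := by omega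
  set κ : F := (-1) ^ k * (2 * c) with hκ
  let a : ℕ → ((Fin k → F) × (Fin k → F)) × F := fun i =>
    if h : i < k then ((Pi.single ⟨i, h⟩ 1, 0), 0)
    else if i = k then ((0, 0), 1)
    else if h' : 2 * k - i < k then ((0, ((-1 : F) ^ (2 * k - i) * κ) • Pi.single ⟨2 * k - i, h'⟩ 1), 0)
    else 0
  refine ⟨fun i => (e.symm (a i) : M), κ, mul_ne_zero (pow_ne_zero _ (by simp)) (mul_ne_zero h2 hc),
    fun i => hMU (Subtype.coe_prop _), fun i l hi hl => ?_⟩
  have hp : polar Q ((e.symm (a i) : M) : V) ((e.symm (a l) : M) : V) =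
      polar (hypSum k (c • sqForm F)) (a i) (a l) :=
    (polar_comp_subtype _ _).symm.trans (UnitaryOrthogonal.polar_isometryEquiv e.symm (a i) (a l))
  rw [hp, polar_hypSum_sq]
  rcases lt_trichotomy i k with h1 | h1 | h1 <;> rcases lt_trichotomy l k with h3 | h3 | h3
  · have ea : a i = ((Pi.single ⟨i, h1⟩ 1, 0), 0) := dif_pos h1
    have eb : a l = ((Pi.single ⟨l, h3⟩ 1, 0), 0) := dif_pos h3
    rw [ea, eb, if_neg (by omega)]
    simp
  · have ea : a i = ((Pi.single ⟨i, h1⟩ 1, 0), 0) := dif_pos h1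
    have eb : a l = ((0, 0), 1) := (dif_neg (by omega)).trans (if_pos h3)
    rw [ea, eb, if_neg (by omega)]
    simp
  · have ea : a i = ((Pi.single ⟨i, h1⟩ 1, 0), 0) := dif_pos h1
    have eb : a l = ((0, ((-1 : F) ^ (2 * k - l) * κ) • Pi.single ⟨2 * k - l, by omega⟩ 1), 0) :=
      (dif_neg (by omega)).trans ((if_neg (by omega)).trans (dif_pos (by omega)))
    rw [ea, eb]
    simp only [Pi.zero_apply, Pi.smul_apply, smul_eq_mul, mul_zero, zero_mul, add_zero]
    rw [Finset.sum_eq_single (⟨i, h1⟩ : Fin k) (fun x _ hx => by simp [Pi.single_eq_of_ne hx]) (by simp),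
      Pi.single_eq_same, one_mul]
    rcases eq_or_ne (i + l) (2 * k) with h | h
    · rw [if_pos h, show (⟨2 * k - l, by omega⟩ : Fin k) = ⟨i, h1⟩ from Fin.ext (by simp only; omega),
        Pi.single_eq_same, show 2 * k - l = i by omega, mul_one]
    · rw [if_neg h, Pi.single_eq_of_ne (fun e => by simp only [Fin.mk.injEq] at e; omega), mul_zero]
  · have ea : a i = ((0, 0), 1) := (dif_neg (by omega)).trans (if_pos h1)
    have eb : a l = ((Pi.single ⟨l, h3⟩ 1, 0), 0) := dif_pos h3
    rw [ea, eb, if_neg (by omega)]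
    simp
  · have ea : a i = ((0, 0), 1) := (dif_neg (by omega)).trans (if_pos h1)
    have eb : a l = ((0, 0), 1) := (dif_neg (by omega)).trans (if_pos h3)
    rw [ea, eb, if_pos (by omega), hκ, h1]
    simp only [Pi.zero_apply, mul_zero, add_zero, Finset.sum_const_zero, zero_add, mul_one]
    rw [← mul_assoc, ← pow_add, ← two_mul, pow_mul, neg_one_sq, one_pow, one_mul]
  · have ea : a i = ((0, 0), 1) := (dif_neg (by omega)).trans (if_pos h1)
    have eb : a l = ((0, ((-1 : F) ^ (2 * k - l) * κ) • Pi.single ⟨2 * k - l, by omega⟩ 1), 0) :=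
      (dif_neg (by omega)).trans ((if_neg (by omega)).trans (dif_pos (by omega)))
    rw [ea, eb, if_neg (by omega)]
    simp
  · have ea : a i = ((0, ((-1 : F) ^ (2 * k - i) * κ) • Pi.single ⟨2 * k - i, by omega⟩ 1), 0) :=
      (dif_neg (by omega)).trans ((if_neg (by omega)).trans (dif_pos (by omega)))
    have eb : a l = ((Pi.single ⟨l, h3⟩ 1, 0), 0) := dif_pos h3
    rw [ea, eb]
    simp only [Pi.zero_apply, Pi.smul_apply, smul_eq_mul, mul_zero, zero_mul, zero_add, add_zero]
    rw [Finset.sum_eq_single (⟨l, h3⟩ : Fin k) (fun x _ hx => by simp [Pi.single_eq_of_ne hx]) (by simp),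
      Pi.single_eq_same, one_mul]
    rcases eq_or_ne (i + l) (2 * k) with h | h
    · rw [if_pos h, show (⟨2 * k - i, by omega⟩ : Fin k) = ⟨l, h3⟩ from Fin.ext (by simp only; omega),
        Pi.single_eq_same, show 2 * k - i = l by omega, mul_one]
      have h4 : (-1 : F) ^ l * (-1) ^ l = 1 := by rw [← mul_pow, neg_mul_neg, one_mul, one_pow]
      have h5 : (-1 : F) ^ i * (-1) ^ l = 1 := by rw [← pow_add, h, pow_mul, neg_one_sq, one_pow]
      congr 1
      linear_combination (-((-1 : F) ^ l)) * h5 + ((-1 : F) ^ i) * h4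
    · rw [if_neg h, Pi.single_eq_of_ne (fun e => by simp only [Fin.mk.injEq] at e; omega), mul_zero]
  · have ea : a i = ((0, ((-1 : F) ^ (2 * k - i) * κ) • Pi.single ⟨2 * k - i, by omega⟩ 1), 0) :=
      (dif_neg (by omega)).trans ((if_neg (by omega)).trans (dif_pos (by omega)))
    have eb : a l = ((0, 0), 1) := (dif_neg (by omega)).trans (if_pos h3)
    rw [ea, eb, if_neg (by omega)]
    simp
  · have ea : a i = ((0, ((-1 : F) ^ (2 * k - i) * κ) • Pi.single ⟨2 * k - i, by omega⟩ 1), 0) :=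
      (dif_neg (by omega)).trans ((if_neg (by omega)).trans (dif_pos (by omega)))
    have eb : a l = ((0, ((-1 : F) ^ (2 * k - l) * κ) • Pi.single ⟨2 * k - l, by omega⟩ 1), 0) :=
      (dif_neg (by omega)).trans ((if_neg (by omega)).trans (dif_pos (by omega)))
    rw [ea, eb, if_neg (by omega)]
    simp

theorem exists_unipotent (h2 : (2 : F) ≠ 0) {U : Submodule F V} (hU : NDOn Q U) {j : ℕ}
    (hj : 2 * j + 1 ≤ Module.finrank F U) :
    ∃ u : orth Q, (toEnd Q u - 1) ^ (2 * j + 1) = 0 ∧ (∃ w ∈ U, ((toEnd Q u - 1) ^ (2 * j)) w ≠ 0) ∧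
      (∀ x ∈ perp Q U, u.1 x = x) ∧ ∀ z : orth Q, (∀ x ∈ U, z.1 x = x) → Commute z u := by
  obtain ⟨w, κ, hκ, hwU, hw⟩ := exists_frame h2 hU hj
  set S : Module.End F V :=
    ∑ i ∈ Finset.range (2 * j), (κ⁻¹ * (-1) ^ i) • (polarBilin Q (w (2 * j - i))).smulRight (w (i + 1)) with hS
  have hSx : ∀ x, S x = ∑ i ∈ Finset.range (2 * j), (κ⁻¹ * (-1) ^ i * polar Q (w (2 * j - i)) x) • w (i + 1) := by
    intro x
    simp only [hS, LinearMap.sum_apply, LinearMap.smul_apply, LinearMap.smulRight_apply, smul_smul]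
    rfl
  have hskew : ∀ x y, polar Q (S x) y = - polar Q x (S y) := by
    intro x y
    show polarBilin Q (S x) y = - polarBilin Q x (S y)
    simp only [hSx, map_sum, map_smul, LinearMap.sum_apply, LinearMap.smul_apply, smul_eq_mul,
      polarBilin_apply_apply]
    rw [← Finset.sum_neg_distrib, ← Finset.sum_range_reflect]
    refine Finset.sum_congr rfl fun i hi => ?_
    rw [Finset.mem_range] at hi
    rw [show 2 * j - (2 * j - 1 - i) = i + 1 by omega, show 2 * j - 1 - i + 1 = 2 * j - i by omega,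
      polar_comm Q x (w (i + 1))]
    have hsgn : (-1 : F) ^ (2 * j - 1 - i) = -(-1) ^ i := by
      rw [show 2 * j - 1 - i = 2 * j - (i + 1) by omega]
      have h1 : (-1 : F) ^ (2 * j - (i + 1)) * (-1) ^ (i + 1) = 1 := by
        rw [← pow_add, Nat.sub_add_cancel (by omega), pow_mul, neg_one_sq, one_pow]
      rw [pow_succ] at h1
      have h3 : (-1 : F) ^ i * (-1) ^ i = 1 := by rw [← mul_pow, neg_mul_neg, one_mul, one_pow]
      linear_combination (-((-1 : F) ^ i)) * h1 - (-1 : F) ^ (2 * j - (i + 1)) * h3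
    rw [hsgn]
    ring
  have hSw : ∀ k, k ≤ 2 * j → S (w k) = if k < 2 * j then w (k + 1) else 0 := by
    intro k hk
    rw [hSx]
    split_ifs with hlt
    · rw [Finset.sum_eq_single k]
      · rw [hw _ _ (by omega) hk, if_pos (by omega)]
        have h1 : (-1 : F) ^ k * (-1) ^ (2 * j - k) = 1 := by
          rw [← pow_add, Nat.add_sub_cancel' hk, pow_mul, neg_one_sq, one_pow]
        rw [show κ⁻¹ * (-1 : F) ^ k * ((-1) ^ (2 * j - k) * κ) =
          ((-1) ^ k * (-1) ^ (2 * j - k)) * (κ⁻¹ * κ) by ring, h1, inv_mul_cancel₀ hκ, one_mul, one_smul]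
      · intro i hi hik
        rw [Finset.mem_range] at hi
        rw [hw _ _ (by omega) hk, if_neg (by omega), mul_zero, zero_smul]
      · intro h
        exact absurd (Finset.mem_range.2 hlt) h
    · refine Finset.sum_eq_zero fun i hi => ?_
      rw [Finset.mem_range] at hi
      rw [hw _ _ (by omega) hk, if_neg (by omega), mul_zero, zero_smul]
  have hSp : ∀ x, (∀ i, i ≤ 2 * j → polar Q (w i) x = 0) → S x = 0 := fun x hx => by
    rw [hSx]
    exact Finset.sum_eq_zero fun i _ => by rw [hx _ (Nat.sub_le _ _), mul_zero, zero_smul]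
  have hchain : ∀ n k, n + k ≤ 2 * j → (S ^ n) (w k) = w (k + n) := by
    intro n
    induction n with
    | zero => intro k _; simp
    | succ n ih =>
      intro k h
      rw [pow_succ, Module.End.mul_apply, hSw k (by omega), if_pos (by omega), ih (k + 1) (by omega),
        show k + 1 + n = k + (n + 1) by omega]
  have hnil : ∀ n, ∀ k, k ≤ 2 * j → 2 * j < n + k → (S ^ n) (w k) = 0 := by
    intro n
    induction n with
    | zero => intro k h1 h2; omega
    | succ n ih =>
      intro k h1 h2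
      rw [pow_succ, Module.End.mul_apply, hSw k h1]
      split_ifs with hlt
      · exact ih (k + 1) (by omega) (by omega)
      · rw [map_zero]
  have hSP : S ^ (2 * j + 1) = 0 := by
    refine LinearMap.ext fun x => ?_
    rw [pow_succ, Module.End.mul_apply, hSx, map_sum, LinearMap.zero_apply]
    refine Finset.sum_eq_zero fun i hi => ?_
    rw [Finset.mem_range] at hi
    rw [map_smul, hnil _ _ (by omega) (by omega), smul_zero]
  have hun : IsUnit (1 - S) := IsNilpotent.isUnit_one_sub ⟨_, hSP⟩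
  obtain ⟨T, hT⟩ := hun
  have hun' : IsUnit (1 + S) := IsNilpotent.isUnit_one_add ⟨_, hSP⟩
  obtain ⟨T', hT'⟩ := hun'
  let u0 : V ≃ₗ[F] V := LinearMap.GeneralLinearGroup.generalLinearEquiv F V (T' * T⁻¹)
  have hu0 : ∀ y, u0 (y - S y) = y + S y := fun y => by
    show ((T' * T⁻¹ : (Module.End F V)ˣ) : Module.End F V) (y - S y) = _
    have e : y - S y = (T : Module.End F V) y := by rw [hT]; rfl
    rw [e, ← Module.End.mul_apply, ← Units.val_mul, inv_mul_cancel_right, hT']
    rfl
  have surj : ∀ x, ∃ y, y - S y = x := fun x => ⟨((T⁻¹ : (Module.End F V)ˣ) : Module.End F V) x, by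
    have := congrArg (fun M : (Module.End F V)ˣ => (M : Module.End F V) x) (mul_inv_cancel T)
    simp only [Units.val_mul, Units.val_one, Module.End.mul_apply, Module.End.one_apply, hT] at this
    exact this⟩
  have hiso : ∀ x, Q (u0 x) = Q x := by
    intro x
    obtain ⟨y, rfl⟩ := surj x
    have h0 : polar Q y (S y) = 0 := by
      have h := hskew y y
      rw [polar_comm] at h
      exact (mul_eq_zero.1 (show (2 : F) * polar Q y (S y) = 0 by linear_combination h)).resolve_left h2
    rw [hu0, UnitaryOrthogonal.form_add, sub_eq_add_neg y, UnitaryOrthogonal.form_add, QuadraticMap.map_neg,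
      polar_neg_right, h0]
    simp
  let u : orth Q := ⟨u0, hiso⟩
  set R : Module.End F V := ((T⁻¹ : (Module.End F V)ˣ) : Module.End F V) with hR
  have hRT : R * (1 - S) = 1 := by rw [hR, ← hT, ← Units.val_mul, inv_mul_cancel, Units.val_one]
  have hTR : (1 - S) * R = 1 := by rw [hR, ← hT, ← Units.val_mul, mul_inv_cancel, Units.val_one]
  have hu1 : toEnd Q u - 1 = (2 : F) • (S * R) := by
    have e : toEnd Q u = (1 + S) * R := by
      rw [hR, ← hT', ← Units.val_mul]
      rfl
    rw [e]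
    rw [show (1 + S) * R - 1 = (1 + S) * R - (1 - S) * R by rw [hTR], ← sub_mul, show (1 : Module.End F V) + S - (1 - S) = (2 : F) • S by rw [two_smul]; abel, smul_mul_assoc]
  have hcom : Commute S R := by
    have h : Commute S (T : Module.End F V) := by
      rw [hT]; exact (Commute.one_right S).sub_right (Commute.refl S)
    exact h.units_inv_right
  have hpow : ∀ n, (toEnd Q u - 1) ^ n = (2 : F) ^ n • (S ^ n * R ^ n) := fun n => by
    rw [hu1, smul_pow, hcom.mul_pow]
  refine ⟨u, ?_, ⟨w 0, hwU 0, ?_⟩, fun x hx => ?_, fun z hz => ?_⟩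
  · rw [hpow, hSP, zero_mul, smul_zero]
  · have hfix : ∀ n, S ^ (2 * j) * (1 - S) ^ n = S ^ (2 * j) := by
      intro n
      induction n with
      | zero => rw [pow_zero, mul_one]
      | succ n ih => rw [pow_succ, ← mul_assoc, ih, mul_sub, mul_one, ← pow_succ, hSP, sub_zero]
    have e : S ^ (2 * j) * R ^ (2 * j) = S ^ (2 * j) := by
      conv_lhs => rw [← hfix (2 * j)]
      rw [mul_assoc, ← ((show Commute (1 - S) R from hTR.trans hRT.symm).mul_pow), hTR, one_pow, mul_one]
    rw [hpow, e, LinearMap.smul_apply, hchain (2 * j) 0 (by omega), zero_add]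
    refine smul_ne_zero (pow_ne_zero _ h2) fun h0 => ?_
    have := hw (2 * j) 0 le_rfl (Nat.zero_le _)
    rw [if_pos (by omega), h0, polar_zero_left] at this
    exact mul_ne_zero (pow_ne_zero _ (by simp)) hκ this.symm
  · have h0 : S x = 0 := hSp x fun i _ => mem_perp.1 hx _ (hwU i)
    have := hu0 x
    rwa [h0, sub_zero, add_zero] at this
  · have hz1 : ∀ y, z.1 (S y) = S y := fun y => by
      rw [hSx, map_sum]
      exact Finset.sum_congr rfl fun i _ => by rw [map_smul, hz _ (hwU _)]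
    have hz2 : ∀ y, S (z.1 y) = S y := fun y => by
      rw [hSx, hSx]
      refine Finset.sum_congr rfl fun i _ => ?_
      have := UnitaryOrthogonal.map_polar z (w (2 * j - i)) y
      rw [hz _ (hwU _)] at this
      rw [this]
    refine orth_ext fun x => ?_
    obtain ⟨y, rfl⟩ := surj x
    show z.1 (u0 (y - S y)) = u0 (z.1 (y - S y))
    rw [hu0, map_add, hz1, map_sub, hz1]
    conv_rhs => rw [← hz2 y, hu0]
    rw [hz2]

end Cfsg.Agent.O9Spec80
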