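import Cfsg.Agent.O9Spec80.Bound
import Cfsg.Agent.O9Spec80.Unip

/-!
Element orders of the semidirect product of a space of minus type by its commutator subgroup.
-/

set_option autoImplicit false
set_option linter.unusedSectionVars false

namespace Cfsg.Agent.O9Spec80

open QuadraticMap
open Cfsg.Agent.UnitaryOrthogonal (orth orth_ext PolarND level)
open Cfsg.Agent.OrthFix

universe u v

variable {F : Type u} [Field F] [Fintype F] {V : Type v} [AddCommGroup V] [Module F V] [FiniteDimensional F V]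
variable {Q : QuadraticForm F V}

/-- the element orders of `V ⋊ Ω(Q)` -/
def SemiOrd (p : ℕ) (Q : QuadraticForm F V) (n : ℕ) : Prop :=
  ∃ h ∈ commutator (orth Q), n = orderOf h ∨
    (n = p * orderOf h ∧ ∃ v, (∑ i ∈ Finset.range (orderOf h), toEnd Q h ^ i) v ≠ 0)

variable {p : ℕ} [Fact p.Prime] [CharP F p]

omit [FiniteDimensional F V] in
theorem geom_sum_eq (P l : ℕ) (hP : P = p ^ l) :
    ∑ i ∈ Finset.range P, (Polynomial.X : Polynomial F) ^ i = (Polynomial.X - 1) ^ (P - 1) := by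
  haveI : ExpChar F p := ExpChar.prime Fact.out
  have hpos : 0 < P := hP ▸ pow_pos (Fact.out : p.Prime).pos l
  refine mul_right_cancel₀ (Polynomial.X_sub_C_ne_zero (1 : F)) ?_
  rw [Polynomial.C_1, geom_sum_mul, ← pow_succ, Nat.sub_add_cancel hpos, hP, sub_pow_expChar_pow, one_pow]

omit [FiniteDimensional F V] in
theorem pow_sub_one_eq (f : Module.End F V) (l : ℕ) : (f - 1) ^ p ^ l = f ^ p ^ l - 1 := by
  haveI : ExpChar F p := ExpChar.prime Fact.out
  have h := congrArg (Polynomial.aeval f) (sub_pow_expChar_pow (Polynomial.X : Polynomial F) 1 l (p := p))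
  simpa using h

omit [FiniteDimensional F V] in
theorem orth_eq_one_of_toEnd {g : orth Q} (h : toEnd Q g = 1) : g = 1 :=
  orth_ext fun x => LinearMap.congr_fun h x

omit [FiniteDimensional F V] in
theorem orderOf_unipotent {u : orth Q} {P l : ℕ} (hP : P = p ^ l) (h1 : (toEnd Q u - 1) ^ P = 0)
    (h2 : (toEnd Q u - 1) ^ (P - 1) ≠ 0) : orderOf u = P := by
  have hd : orderOf u ∣ P := orderOf_dvd_of_pow_eq_one (orth_eq_one_of_toEnd (by
    rw [map_pow, hP, ← sub_eq_zero, ← pow_sub_one_eq (p := p), ← hP, h1]))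
  obtain ⟨l', hl', he⟩ := (Nat.dvd_prime_pow (Fact.out : p.Prime)).1 (hP ▸ hd)
  rcases eq_or_lt_of_le hl' with rfl | hlt
  · rw [he, hP]
  · exfalso
    refine h2 (pow_eq_zero_of_le ?_ (m := p ^ l') ?_)
    · have : p ^ l' < p ^ l := Nat.pow_lt_pow_right (Fact.out : p.Prime).one_lt hlt
      omega
    · rw [pow_sub_one_eq (p := p), ← map_pow, ← he, pow_orderOf_eq_one, map_one, sub_self]

omit [FiniteDimensional F V] in
/-- the order and the trace of a commuting product with a unipotent element -/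
theorem mul_unipotent {T u : orth Q} (hc : Commute T u) {P l : ℕ} (hP : P = p ^ l)
    (h1 : (toEnd Q u - 1) ^ P = 0) {w : V} (hw : ((toEnd Q u - 1) ^ (P - 1)) w ≠ 0) (hT : T.1 w = w)
    (hm : ¬ p ∣ orderOf T) :
    orderOf (T * u) = orderOf T * P ∧ (∑ i ∈ Finset.range (orderOf (T * u)), toEnd Q (T * u) ^ i) w ≠ 0 := by
  have hu := orderOf_unipotent hP h1 (fun h0 => hw (by rw [h0]; rfl))
  have ho : orderOf (T * u) = orderOf T * P := by
    rw [hc.orderOf_mul_eq_mul_orderOf_of_coprime, hu]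
    rw [hu, hP]
    exact Nat.Coprime.pow_right _ ((Fact.out : p.Prime).coprime_iff_not_dvd.2 hm).symm
  refine ⟨ho, ?_⟩
  set f := toEnd Q u with hf
  have hTi : ∀ i : ℕ, (T ^ i).1 w = w := by
    intro i
    induction i with
    | zero => rfl
    | succ i ih => rw [pow_succ', UnitaryOrthogonal.coe_mul_apply, ih, hT]
  have hterm : ∀ i, (toEnd Q (T * u) ^ i) w = (f ^ i) w := fun i => by
    rw [← map_pow, hc.mul_pow, ((hc.pow_pow i i)).eq, map_mul, Module.End.mul_apply, ← map_pow (toEnd Q) u,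
      show (toEnd Q (T ^ i)) w = w from hTi i]
  have hper : ∀ r i, (f ^ (P * r + i)) w = (f ^ i) w := fun r i => by
    rw [pow_add, pow_mul, ← map_pow, show u ^ P = 1 by rw [← hu]; exact pow_orderOf_eq_one u, map_one,
      one_pow, one_mul]
  have hsum : ∀ r, ∑ i ∈ Finset.range (r * P), (f ^ i) w = r • ∑ i ∈ Finset.range P, (f ^ i) w := by
    intro r
    induction r with
    | zero => simp
    | succ r ih =>
      rw [add_mul, one_mul, Finset.sum_range_add, ih, succ_nsmul]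
      congr 1
      exact Finset.sum_congr rfl fun i _ => by rw [mul_comm r P]; exact hper r i
  rw [ho, LinearMap.sum_apply, Finset.sum_congr rfl fun i _ => hterm i, hsum, ← LinearMap.sum_apply]
  have hg : ∑ i ∈ Finset.range P, f ^ i = (f - 1) ^ (P - 1) := by
    have h := congrArg (Polynomial.aeval f) (geom_sum_eq (F := F) P l hP)
    simpa using h
  rw [hg, ← Nat.cast_smul_eq_nsmul F]
  exact smul_ne_zero (fun h => hm ((CharP.cast_eq_zero_iff F p _).1 h)) hw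

variable [Finite V]

theorem semiOrd_unipotent (h2 : (2 : F) ≠ 0) (hQ : PolarND Q) (hn : 2 ≤ Module.finrank F V) {T : orth Q}
    (hT : T ∈ commutator (orth Q)) (hm : ¬ p ∣ orderOf T) {U : Submodule F V} (hU : NDOn Q U)
    (hfix : ∀ x ∈ U, T.1 x = x) {j l : ℕ} (hj : 2 * j + 1 = p ^ l) (hd : 2 * j + 1 ≤ Module.finrank F U) :
    SemiOrd p Q (p * (orderOf T * p ^ l)) := by
  obtain ⟨u, h1, ⟨w, hwU, hw⟩, -, hcomm⟩ := exists_unipotent h2 hU hd
  rw [hj] at h1
  rw [show 2 * j = p ^ l - 1 by omega] at hw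
  obtain ⟨ho, hsum⟩ := mul_unipotent (hcomm T hfix) rfl h1 hw (hfix w hwU) hm
  haveI := orth_finite (Q := Q)
  have hu : u ∈ commutator (orth Q) := mem_commutator_of_odd h2 hQ hn (by
    rw [orderOf_unipotent rfl h1 (fun h0 => hw (by rw [h0]; rfl)), ← hj]
    exact ⟨j, rfl⟩)
  exact ⟨T * u, mul_mem hT hu, Or.inr ⟨by rw [ho], w, hsum⟩⟩

theorem exists_two (h2 : (2 : F) ≠ 0) (hQ : PolarND Q) (hd : Module.finrank F V = 8) (hs : Sig Q (-1))
    {k1 k2 : ℕ} {η1 η2 : ℤ} (hη1 : η1 = 1 ∨ η1 = -1) (hη2 : η2 = 1 ∨ η2 = -1) (hk1 : 1 ≤ k1) (hk2 : 1 ≤ k2)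
    (hle : 2 * k1 + 2 * k2 ≤ 8) (hfull : 2 * k1 + 2 * k2 = 8 → η1 * η2 = -1) :
    ∃ (T : orth Q) (E : Submodule F V), T ∈ commutator (orth Q) ∧
      orderOf T = Nat.lcm (torN (Fintype.card F) k1 η1) (torN (Fintype.card F) k2 η2) ∧
      NDOn Q E ∧ Module.finrank F E = 8 - (2 * k1 + 2 * k2) ∧ ∀ x ∈ E, T.1 x = x := by
  have hd' : Module.finrank F (⊤ : Submodule F V) = 8 := by rw [finrank_top, hd]
  obtain ⟨W1, -, hW1d, hW1, hW1s⟩ := exists_sub (m := 2 * k1) (ε := η1) (ndOn_top hQ) (sigOn_top hs)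
    ⟨by omega, hη1, fun h => by omega, fun h => by omega, fun _ => even_two_mul k1⟩
  obtain ⟨hR, hRd, hRs⟩ := (ndOn_top hQ).inf_perp hW1 le_top
  set R := (⊤ : Submodule F V) ⊓ perp Q W1 with hRdef
  have hRd' : Module.finrank F R = 8 - 2 * k1 := by omega
  have hRs' : SigOn Q R (-η1) := by
    have h := hRs _ _ (sigOn_top hs) hW1s
    rwa [hW1d, sig_even_left (even_two_mul k1), mul_one, neg_one_mul] at h
  obtain ⟨W2, hW2R, hW2d, hW2, hW2s⟩ := exists_sub (m := 2 * k2) (ε := η2) hR hRs'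
    ⟨by omega, hη2, fun h => by omega, fun h => by
      have := hfull (by omega)
      rcases hη1 with rfl | rfl <;> rcases hη2 with rfl | rfl <;> simp_all,
      fun _ => even_two_mul k2⟩
  obtain ⟨hE, hEd, -⟩ := hR.inf_perp hW2 hW2R
  have hle1 : W2 ≤ perp Q W1 := hW2R.trans inf_le_right
  have hle2 : W1 ≤ perp Q W2 := fun x hx => mem_perp.2 fun u hu => by
    rw [polar_comm]; exact mem_perp.1 (hle1 hu) x hx
  obtain ⟨T1, hfix1, ho1, hfree1, hsgn1⟩ := exists_torus h2 hQ hW1 hW1s hk1 hW1d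
  obtain ⟨T2, hfix2, ho2, hfree2, hsgn2⟩ := exists_torus h2 hQ hW2 hW2s hk2 hW2d
  haveI := orth_finite (Q := Q)
  have hcomm : Commute T1 T2 := by
    refine orth_ext fun x => ?_
    obtain ⟨a, ha, r, hr, rfl⟩ := Submodule.mem_sup.1 (hW1.isCompl.sup_eq_top ▸ Submodule.mem_top : x ∈ W1 ⊔ perp Q W1)
    have ha2 : T2.1 a = a := hfix2 a (hle2 ha)
    have hTa : T2.1 (T1.1 a) = T1.1 a := hfix2 _ (mem_perp.2 fun u hu => by
      rw [← hfix1 u (hle1 hu), UnitaryOrthogonal.map_polar, mem_perp.1 (hle2 ha) u hu])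
    have hTr : T1.1 (T2.1 r) = T2.1 r := hfix1 _ (mem_perp.2 fun u hu => by
      rw [← hfix2 u (hle2 hu), UnitaryOrthogonal.map_polar, mem_perp.1 hr u hu])
    simp only [UnitaryOrthogonal.coe_mul_apply, map_add, ha2, hfix1 r hr, hTa, hTr]
  refine ⟨T1 * T2, R ⊓ perp Q W2, ?_, ?_, hE, by omega, fun x hx => ?_⟩
  · exact (mem_commutator_iff h2 hQ (by omega)).2 fun c hc => by
      rw [map_mul, hsgn1 c hc, hsgn2 c hc]; decide
  · refine Nat.dvd_antisymm ?_ (Nat.lcm_dvd ?_ ?_)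
    · have := hcomm.orderOf_mul_dvd_lcm
      rwa [ho1, ho2] at this
    all_goals
      have h := pow_orderOf_eq_one (T1 * T2)
      rw [hcomm.mul_pow] at h
      set n := orderOf (T1 * T2)
    · haveI : Nontrivial W1 := Module.nontrivial_of_finrank_pos (R := F) (by omega)
      obtain ⟨⟨x, hx⟩, hx0⟩ := exists_ne (0 : W1)
      refine hfree1 x hx (fun h0 => hx0 (Subtype.ext h0)) n ?_
      have h2x : ∀ i : ℕ, (T2 ^ i).1 x = x := fun i => by
        induction i with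
        | zero => rfl
        | succ i ih => rw [pow_succ', UnitaryOrthogonal.coe_mul_apply, ih, hfix2 x (hle2 hx)]
      have h' := congrArg (fun t : orth Q => t.1 x) h
      simp only [UnitaryOrthogonal.coe_mul_apply, h2x] at h'
      exact h'
    · haveI : Nontrivial W2 := Module.nontrivial_of_finrank_pos (R := F) (by omega)
      obtain ⟨⟨x, hx⟩, hx0⟩ := exists_ne (0 : W2)
      refine hfree2 x hx (fun h0 => hx0 (Subtype.ext h0)) n ?_
      have h1x : ∀ i : ℕ, (T1 ^ i).1 x = x := fun i => by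
        induction i with
        | zero => rfl
        | succ i ih => rw [pow_succ', UnitaryOrthogonal.coe_mul_apply, ih, hfix1 x (hle1 hx)]
      rw [← ((hcomm.pow_pow n n)).symm.eq] at h
      have h' := congrArg (fun t : orth Q => t.1 x) h
      simp only [UnitaryOrthogonal.coe_mul_apply, h1x] at h'
      exact h'
  · rw [UnitaryOrthogonal.coe_mul_apply, hfix2 x hx.2, hfix1 x hx.1.2]

omit [FiniteDimensional F V] [Finite V] in
theorem not_dvd_torN (k : ℕ) (hk : 1 ≤ k) (η : ℤ) : ¬ p ∣ torN (Fintype.card F) k η := by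
  have hp : p.Prime := Fact.out
  have hpq : p ∣ Fintype.card F := (CharP.cast_eq_zero_iff F p _).1 (FiniteField.cast_card_eq_zero F)
  have hd := dvd_pow hpq (show k ≠ 0 by omega)
  intro h
  unfold torN at h
  split_ifs at h
  · have := Nat.dvd_sub hd h
    rw [Nat.sub_sub_self (Nat.one_le_pow _ _ Fintype.card_pos)] at this
    exact hp.not_dvd_one this
  · exact hp.not_dvd_one ((Nat.dvd_add_right hd).1 h)

theorem realise (h2 : (2 : F) ≠ 0) (hQ : PolarND Q) (hd : Module.finrank F V = 8) (hs : Sig Q (-1)) {n : ℕ}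
    (h : InList p (Fintype.card F) n) : ∃ b, SemiOrd p Q b ∧ n ∣ b := by
  have hp : p.Prime := Fact.out
  set q := Fintype.card F with hq
  have hodd : Odd q := Nat.odd_iff.2 (FiniteField.odd_card_of_char_ne_two (OrthFix.ringChar_ne_two h2))
  have hq1 : 1 < q := Fintype.one_lt_card
  have t1 : ∀ k, torN q k 1 = q ^ k - 1 := fun k => if_pos rfl
  have t2 : ∀ k, torN q k (-1) = q ^ k + 1 := fun k => if_neg (by decide)
  have ndl : ∀ {k1 k2 : ℕ} {η1 η2 : ℤ}, 1 ≤ k1 → 1 ≤ k2 → ¬ p ∣ Nat.lcm (torN q k1 η1) (torN q k2 η2) := by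
    intro k1 k2 η1 η2 h1 h2' hdvd
    rcases hp.dvd_mul.1 (hdvd.trans (Nat.lcm_dvd_mul _ _)) with hh | hh
    · exact not_dvd_torN k1 h1 η1 hh
    · exact not_dvd_torN k2 h2' η2 hh
  -- no fixed space needed
  have plain : ∀ (k1 k2 : ℕ) (η1 η2 : ℤ), (η1 = 1 ∨ η1 = -1) → (η2 = 1 ∨ η2 = -1) → 1 ≤ k1 → 1 ≤ k2 →
      2 * k1 + 2 * k2 ≤ 8 → (2 * k1 + 2 * k2 = 8 → η1 * η2 = -1) → n ∣ Nat.lcm (torN q k1 η1) (torN q k2 η2) →
      ∃ b, SemiOrd p Q b ∧ n ∣ b := by
    intro k1 k2 η1 η2 e1 e2 a1 a2 hle hfull hn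
    obtain ⟨T, E, hT, ho, -, -, -⟩ := exists_two h2 hQ hd hs e1 e2 a1 a2 hle hfull
    exact ⟨_, ⟨T, hT, Or.inl rfl⟩, ho ▸ hn⟩
  -- with a fixed space
  have withP : ∀ (k1 k2 : ℕ) (η1 η2 : ℤ) (j l : ℕ), (η1 = 1 ∨ η1 = -1) → (η2 = 1 ∨ η2 = -1) → 1 ≤ k1 → 1 ≤ k2 →
      2 * j + 1 = p ^ l → 2 * k1 + 2 * k2 + (2 * j + 1) ≤ 8 →
      n ∣ p * (Nat.lcm (torN q k1 η1) (torN q k2 η2) * p ^ l) → ∃ b, SemiOrd p Q b ∧ n ∣ b := by
    intro k1 k2 η1 η2 j l e1 e2 a1 a2 hj hle hn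
    obtain ⟨T, E, hT, ho, hE, hEd, hfix⟩ := exists_two h2 hQ hd hs e1 e2 a1 a2 (by omega) (by omega)
    exact ⟨_, semiOrd_unipotent h2 hQ (by omega) hT (ho ▸ ndl a1 a2) hE hfix hj (by omega), ho.symm ▸ hn⟩
  rcases h with h | h | h | h | h | h | ⟨rfl, h⟩ | ⟨rfl, h⟩
  · exact plain 3 1 1 (-1) (Or.inl rfl) (Or.inr rfl) (by norm_num) le_rfl le_rfl (fun _ => by norm_num)
      (by rwa [t1, t2, pow_one])
  · exact plain 3 1 (-1) 1 (Or.inr rfl) (Or.inl rfl) (by norm_num) le_rfl le_rfl (fun _ => by norm_num)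
      (by rwa [t1, t2, pow_one])
  · refine plain 2 2 1 (-1) (Or.inl rfl) (Or.inr rfl) (by norm_num) (by norm_num) le_rfl (fun _ => by norm_num)
      (h.trans ?_)
    rw [t1, t2]
    obtain ⟨r, hr⟩ := (Nat.Odd.sub_odd (hodd.pow (n := 2)) odd_one).two_dvd
    have hgcd : Nat.gcd (q ^ 2 - 1) (q ^ 2 + 1) ∣ 2 := by
      have := Nat.dvd_sub (Nat.gcd_dvd_right (q ^ 2 - 1) (q ^ 2 + 1)) (Nat.gcd_dvd_left (q ^ 2 - 1) (q ^ 2 + 1))
      rwa [show q ^ 2 + 1 - (q ^ 2 - 1) = 2 by have := Nat.one_le_pow 2 q (by omega); omega] at this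
    obtain ⟨s, hs'⟩ := hgcd
    have hmul := Nat.gcd_mul_lcm (q ^ 2 - 1) (q ^ 2 + 1)
    rw [show (q ^ 2 - 1) * (q ^ 2 + 1) = q ^ 4 - 1 by rw [mul_comm, ← Nat.sq_sub_sq, one_pow, ← pow_mul]] at hmul
    rcases (Nat.dvd_prime Nat.prime_two).1 (Dvd.intro s hs'.symm) with hg | hg
    · rw [hg, one_mul] at hmul
      rw [hmul]
      exact Nat.div_dvd_of_dvd (Nat.Odd.sub_odd hodd.pow odd_one).two_dvd
    · rw [← hmul, hg, Nat.mul_div_cancel_left _ two_pos]
  · refine withP 2 1 1 1 0 0 (Or.inl rfl) (Or.inl rfl) (by norm_num) le_rfl (by simp) (by norm_num) (h.trans ?_)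
    rw [pow_zero, mul_one, t1]
    exact mul_dvd_mul_left p (Nat.dvd_lcm_left _ _)
  · refine withP 2 1 (-1) 1 0 0 (Or.inr rfl) (Or.inl rfl) (by norm_num) le_rfl (by simp) (by norm_num) ?_
    rwa [pow_zero, mul_one, t1, t2, pow_one]
  · refine withP 2 1 (-1) (-1) 0 0 (Or.inr rfl) (Or.inr rfl) (by norm_num) le_rfl (by simp) (by norm_num) ?_
    rwa [pow_zero, mul_one, t2, t2, pow_one]
  · rcases h with h | h
    · refine withP 1 1 1 1 1 1 (Or.inl rfl) (Or.inl rfl) le_rfl le_rfl (by norm_num) (by norm_num) ?_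
      rw [Nat.lcm_self, t1, pow_one, pow_one, show 3 * ((q - 1) * 3) = 9 * (q - 1) by ring]
      exact h
    · refine withP 1 1 (-1) (-1) 1 1 (Or.inr rfl) (Or.inr rfl) le_rfl le_rfl (by norm_num) (by norm_num) ?_
      rw [Nat.lcm_self, t2, pow_one, pow_one, show 3 * ((q + 1) * 3) = 9 * (q + 1) by ring]
      exact h
  · -- fifty
    obtain ⟨η, hη, h4⟩ : ∃ η : ℤ, (η = 1 ∨ η = -1) ∧ 4 ∣ torN q 1 η := by
      rcases (show q % 4 = 1 ∨ q % 4 = 3 by obtain ⟨r, hr⟩ := hodd; omega) with hq4 | hq4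
      · exact ⟨1, Or.inl rfl, by rw [t1, pow_one]; omega⟩
      · exact ⟨-1, Or.inr rfl, by rw [t2, pow_one]; omega⟩
    obtain ⟨W, -, hWd, hW, hWs⟩ := exists_sub (m := 2 * 1) (ε := η) (ndOn_top hQ) (sigOn_top hs)
      ⟨by rw [finrank_top, hd]; norm_num, hη, fun h => by omega, fun h => by rw [finrank_top, hd] at h; omega,
        fun _ => even_two_mul 1⟩
    obtain ⟨hE, hEd, -⟩ := (ndOn_top hQ).inf_perp hW le_top
    rw [finrank_top, hd] at hEd
    obtain ⟨T, hfix, ho, hfree, hsgn⟩ := exists_torus h2 hQ hW hWs le_rfl hWd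
    haveI := orth_finite (Q := Q)
    obtain ⟨r, hr⟩ := h4
    have hr0 : 0 < r := by
      have := torN_pos (q := q) hq1 le_rfl η
      rw [hr] at this
      omega
    set T' := T ^ (2 * r) with hT'
    have ho' : orderOf T' = 2 := by
      rw [hT', orderOf_pow' T (by omega), ho, hr, Nat.gcd_eq_right ⟨2, by ring⟩,
        show 4 * r = 2 * (2 * r) by ring, Nat.mul_div_cancel _ (by omega)]
    have hT'c : T' ∈ commutator (orth Q) := (mem_commutator_iff h2 hQ (by omega)).2 fun c hc => by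
      rw [hT', map_pow, hsgn c hc, pow_mul]
      simp
    have hfix' : ∀ x ∈ (⊤ : Submodule F V) ⊓ perp Q W, T'.1 x = x := fun x hx => by
      have : ∀ i : ℕ, (T ^ i).1 x = x := fun i => by
        induction i with
        | zero => rfl
        | succ i ih => rw [pow_succ', UnitaryOrthogonal.coe_mul_apply, ih, hfix x hx.2]
      exact this _
    refine ⟨_, semiOrd_unipotent h2 hQ (by omega) hT'c (by rw [ho']; norm_num) hE hfix' (j := 2) (l := 1)
      (by norm_num) (by omega), ?_⟩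
    rw [ho']
    exact h

end Cfsg.Agent.O9Spec80
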