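import Cfsg.Agent.OrthFix.Core
import Cfsg.Agent.Forms59.OmegaTools
import Cfsg.Agent.Spectra36.Tools

/-!
The commutator subgroup of an orthogonal group in odd characteristic, by signs of permutations of levels.
-/

set_option autoImplicit false
set_option linter.unusedSectionVars false

namespace Cfsg.Agent.O9Spec80

open QuadraticMap
open Cfsg.Agent.UnitaryOrthogonal (orth rf orth_ext level orthCongr PolarND)
open Cfsg.Agent.OrthFix

universe u v w

variable {F : Type u} [Field F] {V : Type v} [AddCommGroup V] [Module F V]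
variable {V' : Type w} [AddCommGroup V'] [Module F V']
variable {Q : QuadraticForm F V} {Q' : QuadraticForm F V'}

theorem orth_finite [Finite V] : Finite (orth Q) :=
  Finite.of_injective (fun g : orth Q => (⇑g.1 : V → V)) fun _ _ h => orth_ext (congrFun h)

theorem map_form' (g : orth Q) (x : V) : Q (g.1 x) = Q x := g.2 x

/-- the permutation of a level -/
noncomputable def permQ (Q : QuadraticForm F V) (c : F) : orth Q →* Equiv.Perm {x : V // Q x = c} where
  toFun g := g.1.toEquiv.subtypeEquiv fun x => by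
    show Q x = c ↔ Q (g.1 x) = c
    rw [map_form']
  map_one' := Equiv.ext fun _ => Subtype.ext rfl
  map_mul' _ _ := Equiv.ext fun _ => Subtype.ext rfl

@[simp] theorem permQ_val (c : F) (g : orth Q) (x : {x : V // Q x = c}) : (permQ Q c g x).1 = g.1 x.1 := rfl

/-- its sign -/
noncomputable def sgnQ [Finite V] (Q : QuadraticForm F V) (c : F) : orth Q →* ℤˣ := by
  classical
  letI := Fintype.ofFinite {x : V // Q x = c}
  exact Equiv.Perm.sign.comp (permQ Q c)

theorem sgnQ_eq [Finite V] (c : F) [Fintype {x : V // Q x = c}] [DecidableEq {x : V // Q x = c}]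
    (g : orth Q) : sgnQ Q c g = Equiv.Perm.sign (permQ Q c g) := by
  rw [sgnQ]
  simp only [MonoidHom.comp_apply]
  convert rfl

theorem sgnQ_congr [Finite V] [Finite V'] (e : Q.IsometryEquiv Q') (c : F) (g : orth Q) :
    sgnQ Q' c (orthCongr e g) = sgnQ Q c g := by
  classical
  letI := Fintype.ofFinite {x : V // Q x = c}
  letI := Fintype.ofFinite {x : V' // Q' x = c}
  rw [sgnQ_eq, sgnQ_eq]
  let s : {x : V // Q x = c} ≃ {x : V' // Q' x = c} := e.toLinearEquiv.toEquiv.subtypeEquiv fun x => by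
    show Q x = c ↔ Q' (e x) = c
    rw [e.map_app]
  refine (congrArg Equiv.Perm.sign (Equiv.ext fun y => ?_)).trans (Equiv.Perm.sign_permCongr s _)
  obtain ⟨x, rfl⟩ := s.surjective y
  rw [Equiv.permCongr_apply, Equiv.symm_apply_apply]
  exact Subtype.ext (UnitaryOrthogonal.orthCongr_apply e g x.1)

theorem sgnQ_of_mem [Finite V] {g : orth Q} (hg : g ∈ commutator (orth Q)) (c : F) : sgnQ Q c g = 1 :=
  Abelianization.commutator_subset_ker (sgnQ Q c) hg

section coord

variable {n : ℕ} [Fintype F] {R : QuadraticForm F (Fin n → F)}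

noncomputable abbrev coordEquiv (R : QuadraticForm F (Fin n → F)) :
    ↥(Cfsg.isometryGroup F ⇑R) ≃* orth R :=
  UnitaryOrthogonal.isometryGroupEquiv R fun _ => rfl

theorem sgnQ_coord (c : F) (g : ↥(Cfsg.isometryGroup F ⇑R)) :
    sgnQ R c (coordEquiv R g) = Reflections.theta R c g := by
  classical
  rw [sgnQ_eq, Reflections.theta_eq]
  rfl

theorem coordEquiv_refl {v : Fin n → F} (hv : R v ≠ 0) :
    coordEquiv R (Reflections.refl R v) = rf R v :=
  orth_ext fun x => (Reflections.act_refl hv x).trans (UnitaryOrthogonal.rf_apply v x).symm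

end coord

variable [Fintype F] [FiniteDimensional F V]

theorem exists_coord (hQ : PolarND Q) : ∃ (R : QuadraticForm F (Fin (Module.finrank F V) → F))
    (_ : Q.IsometryEquiv R), PolarND R ∧ R.polarBilin.Nondegenerate := by
  let e := (Module.finBasis F V).equivFun
  let i : Q.IsometryEquiv (Q.comp e.symm.toLinearMap) := { e with map_app' := fun v => by simp }
  exact ⟨_, i, hQ.congr i, nondegenerate_of_polarND (hQ.congr i)⟩

theorem sgnQ_rf [Finite V] (h2 : (2 : F) ≠ 0) (hQ : PolarND Q) {a : V} (ha : Q a ≠ 0) {c : F} (hc : c ≠ 0) :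
    ((∃ t : F, t * t * Q a = c) → sgnQ Q c (rf Q a) = -1) ∧
      ((¬ ∃ t : F, t * t * Q a = c) → sgnQ Q c (rf Q a) = 1) := by
  classical
  obtain ⟨R, e, -, -⟩ := exists_coord hQ
  have ha' : R (e a) ≠ 0 := by rwa [e.map_app]
  rw [← sgnQ_congr e, UnitaryOrthogonal.orthCongr_rf, ← coordEquiv_refl ha', sgnQ_coord, ← e.map_app a]
  exact Reflections.theta_refl_aux h2 ha' hc

theorem reflGroup_eq_top (h2 : (2 : F) ≠ 0) (hQ : PolarND Q) :
    Subgroup.closure {g : orth Q | ∃ a, Q a ≠ 0 ∧ g = rf Q a} = ⊤ := by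
  classical
  obtain ⟨R, e, -, hR⟩ := exists_coord hQ
  refine eq_top_iff.2 fun g _ => ?_
  obtain ⟨vs, hvs, hg⟩ := Forms59.exists_reflProd hR
    (Or.inl fun h => h2 (by
      have := FiniteField.cast_card_eq_zero F
      rw [h] at this
      exact_mod_cast this)) ((coordEquiv R).symm (orthCongr e g))
  rw [MulEquiv.symm_apply_eq] at hg
  have hg' : g = (orthCongr e).symm (coordEquiv R (Forms59.reflProd R vs)) := by
    rw [← hg, MulEquiv.symm_apply_apply]
  rw [hg', Forms59.reflProd, map_list_prod, map_list_prod, List.map_map, List.map_map]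
  refine list_prod_mem fun z hz => ?_
  obtain ⟨v, hv, rfl⟩ := List.mem_map.1 hz
  refine Subgroup.subset_closure ⟨e.symm v, ?_, ?_⟩
  · rw [e.symm.map_app]; exact hvs v hv
  · simp only [Function.comp_apply]
    rw [coordEquiv_refl (hvs v hv), MulEquiv.symm_apply_eq, UnitaryOrthogonal.orthCongr_rf]
    exact congrArg (rf R) (e.toLinearEquiv.apply_symm_apply v).symm

theorem mem_commutator_iff [Finite V] (h2 : (2 : F) ≠ 0) (hQ : PolarND Q)
    (hn : 2 ≤ Module.finrank F V) {g : orth Q} :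
    g ∈ commutator (orth Q) ↔ ∀ c : F, c ≠ 0 → sgnQ Q c g = 1 := by
  classical
  refine ⟨fun h c _ => sgnQ_of_mem h c, fun h => ?_⟩
  obtain ⟨R, e, -, hR⟩ := exists_coord hQ
  obtain ⟨ε, hε0, hε⟩ := Reflections.exists_nonsquare_scalar (F := F) h2
  have hmem : (coordEquiv R).symm (orthCongr e g) ∈ Cfsg.Omega F ⇑R := by
    rw [Reflections.omega_eq_ker h2 hR (by simpa using hn) hε, MonoidHom.mem_ker]
    simp only [Reflections.thetaPair, MonoidHom.prod_apply, Prod.mk_eq_one]
    rw [← sgnQ_coord, ← sgnQ_coord, MulEquiv.apply_symm_apply, sgnQ_congr, sgnQ_congr]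
    exact ⟨h 1 one_ne_zero, h ε hε0⟩
  let f : ↥(Cfsg.isometryGroup F ⇑R) ≃* orth Q := (coordEquiv R).trans (orthCongr e).symm
  have hf : f ((coordEquiv R).symm (orthCongr e g)) = g := by simp [f]
  rw [← hf, commutator_def,
    ← Subgroup.map_top_of_surjective f.toMonoidHom f.surjective, ← Subgroup.map_commutator]
  exact Subgroup.mem_map_of_mem f.toMonoidHom hmem

theorem mem_commutator_of_odd [Finite V] (h2 : (2 : F) ≠ 0) (hQ : PolarND Q)
    (hn : 2 ≤ Module.finrank F V) {g : orth Q} (hg : Odd (orderOf g)) : g ∈ commutator (orth Q) := by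
  refine (mem_commutator_iff h2 hQ hn).2 fun c _ => ?_
  rcases Int.units_eq_one_or (sgnQ Q c g) with h | h
  · exact h
  · exfalso
    have := congrArg (sgnQ Q c) (pow_orderOf_eq_one g)
    rw [map_pow, h, map_one, hg.neg_one_pow] at this
    exact absurd this (by decide)

/-! ### glueing -/

section glue

variable [Finite V] {U : Submodule F V}

theorem glue_injective (hU : NDOn Q U) : Function.Injective (glue hU) := fun a b hab =>
  orth_ext fun x => Subtype.ext (by rw [← glue_of_mem hU a x.2, ← glue_of_mem hU b x.2, hab])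

theorem glue_rf (hU : NDOn Q U) (a : U) : glue hU (rf (Q.comp U.subtype) a) = rf Q (a : V) := by
  refine orth_ext fun x => ?_
  obtain ⟨u, hu, w, hw, rfl⟩ := Submodule.mem_sup.1 (hU.isCompl.sup_eq_top ▸ Submodule.mem_top : x ∈ U ⊔ perp Q U)
  rw [glue_apply hU _ hu hw, UnitaryOrthogonal.rf_apply, UnitaryOrthogonal.rf_apply, polar_add_right,
    mem_perp.1 hw _ a.2, add_zero]
  have e : polar (Q.comp U.subtype) a ⟨u, hu⟩ = polar Q (a : V) u := polar_comp_subtype a ⟨u, hu⟩
  rw [e]
  show u - ((Q (a : V))⁻¹ * polar Q (a : V) u) • (a : V) + w = _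
  abel

theorem sgnQ_glue (h2 : (2 : F) ≠ 0) (hQ : PolarND Q) (hU : NDOn Q U) {c : F} (hc : c ≠ 0)
    (h : orth (Q.comp U.subtype)) : sgnQ Q c (glue hU h) = sgnQ (Q.comp U.subtype) c h := by
  have e : (sgnQ Q c).comp (glue hU) = sgnQ (Q.comp U.subtype) c := by
    refine MonoidHom.eq_of_eqOn_dense (reflGroup_eq_top h2 hU) ?_
    rintro _ ⟨a, ha, rfl⟩
    rw [MonoidHom.comp_apply, glue_rf]
    obtain ⟨s1, s2⟩ := sgnQ_rf h2 hU ha hc
    obtain ⟨t1, t2⟩ := sgnQ_rf h2 hQ (show Q (a : V) ≠ 0 from ha) hc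
    by_cases hx : ∃ t : F, t * t * Q (a : V) = c
    · rw [t1 hx, s1 hx]
    · rw [t2 hx, s2 hx]
  exact DFunLike.congr_fun e h

theorem glue_mem_iff (h2 : (2 : F) ≠ 0) (hQ : PolarND Q) (hU : NDOn Q U)
    (hn : 2 ≤ Module.finrank F U) {h : orth (Q.comp U.subtype)} :
    glue hU h ∈ commutator (orth Q) ↔ h ∈ commutator (orth (Q.comp U.subtype)) := by
  rw [mem_commutator_iff h2 hU hn, mem_commutator_iff h2 hQ (hn.trans (Submodule.finrank_le U))]
  exact forall₂_congr fun c hc => by rw [sgnQ_glue h2 hQ hU hc]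

theorem glue_restr {g : orth Q} (hU : NDOn Q U) (hinv : ∀ x ∈ U, g.1 x ∈ U)
    (hfix : ∀ x ∈ perp Q U, g.1 x = x) : glue hU (restr g U hinv) = g := by
  refine orth_ext fun x => ?_
  obtain ⟨u, hu, w, hw, rfl⟩ := Submodule.mem_sup.1 (hU.isCompl.sup_eq_top ▸ Submodule.mem_top : x ∈ U ⊔ perp Q U)
  rw [glue_apply hU _ hu hw, map_add, hfix w hw]
  rfl

end glue

/-! ### semiregular elements -/

theorem sgnQ_semiregular [Finite V] {t : orth Q} {N L : ℕ} {c : F}
    (hN : Even N) (hN0 : 0 < N) (ht : t ^ N = 1) (hfree : ∀ x : V, Q x = c → ∀ j, (t ^ j).1 x = x → N ∣ j)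
    (hL : level Q c = L * N) : sgnQ Q c t = (-1) ^ L := by
  classical
  letI := Fintype.ofFinite {x : V // Q x = c}
  rw [sgnQ_eq]
  refine Spectra36.sign_of_semiregular _ hN hN0 ?_ ?_ ?_
  · rw [← map_pow, ht, map_one]
  · intro x _ j hj
    refine hfree x.1 x.2 j ?_
    rw [← map_pow] at hj
    exact congrArg Subtype.val hj
  · rw [← hL, level, Nat.card_eq_fintype_card, ← Finset.card_univ]
    congr 1
    refine Finset.eq_univ_of_forall fun x => Equiv.Perm.mem_support.2 fun hx => ?_
    have h1 : N ∣ 1 := hfree x.1 x.2 1 (by rw [pow_one]; exact congrArg Subtype.val hx)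
    rw [Nat.dvd_one] at h1
    rw [h1] at hN
    exact absurd hN (by decide)

theorem dvd_level [Finite V] {t : orth Q} {N : ℕ} {c : F} (hN0 : 0 < N) (ht : t ^ N = 1)
    (hfree : ∀ x : V, Q x = c → ∀ j, (t ^ j).1 x = x → N ∣ j) : N ∣ level Q c := by
  classical
  let A : Subgroup (orth Q) := Subgroup.zpowers t
  haveI := orth_finite (Q := Q)
  letI act : MulAction A {x : V // Q x = c} := MulAction.compHom _ ((permQ Q c).comp A.subtype)
  have hord : orderOf t = N → Nat.card A = N := fun h => by rw [Nat.card_zpowers, h]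
  rcases eq_or_ne (level Q c) 0 with h0 | h0
  · rw [h0]; exact dvd_zero N
  obtain ⟨⟨x0, hx0⟩⟩ : Nonempty {x : V // Q x = c} := (Nat.card_pos_iff.1 (Nat.pos_of_ne_zero h0)).1
  have ho : orderOf t = N := Nat.dvd_antisymm (orderOf_dvd_of_pow_eq_one ht)
    (hfree x0 hx0 _ (by rw [pow_orderOf_eq_one]; rfl))
  have hstab : ∀ x : {x : V // Q x = c}, MulAction.stabilizer A x = ⊥ := by
    intro x
    refine (Subgroup.eq_bot_iff_forall _).2 fun a ha => ?_
    obtain ⟨j, hj⟩ := (mem_powers_iff_mem_zpowers).2 a.2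
    have hj' : t ^ j = a.1 := hj
    have : (t ^ j).1 x.1 = x.1 := by rw [hj']; exact congrArg Subtype.val ha
    exact Subtype.ext (hj'.symm.trans (orderOf_dvd_iff_pow_eq_one.1 (ho ▸ hfree x.1 x.2 j this)))
  have hcard := Nat.card_congr (MulAction.selfEquivSigmaOrbitsQuotientStabilizer A {x : V // Q x = c})
  letI := Fintype.ofFinite (Quotient (MulAction.orbitRel A {x : V // Q x = c}))
  rw [level, hcard, Nat.card_sigma]
  refine Finset.dvd_sum fun ω _ => ?_
  rw [hstab, Nat.card_congr (QuotientGroup.quotientBot (G := A)).toEquiv, hord ho]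

end Cfsg.Agent.O9Spec80
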